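import Cfsg.Agent.Lib.Coprime.Conjugacy

/-!
Coprime action inside an ambient group: `A` normalises `K`.
Glauberman's lemma, fixed points in quotients, invariant Sylow subgroups.
-/

namespace Cfsg.Agent.Lib.Coprime

open Subgroup
open scoped Pointwise

set_option linter.style.haveILetI false
set_option maxHeartbeats 400000

universe u

variable {G : Type u} [Group G]

theorem mem_normalizer_conj_mem {A K : Subgroup G} (hAK : A ≤ normalizer (K : Set G))
    {a k : G} (ha : a ∈ A) (hk : k ∈ K) : a * k * a⁻¹ ∈ K :=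
  (mem_normalizer_iff.mp (hAK ha) k).mp hk

theorem isSolvable_of_isMulCommutative (A : Subgroup G) [IsMulCommutative A] :
    Group.IsSolvable A :=
  open IsMulCommutative in inferInstance

theorem isSolvable_of_isPGroup [Finite G] {p : ℕ} [Fact p.Prime] {A : Subgroup G}
    (hA : IsPGroup p A) : Group.IsSolvable A :=
  haveI := hA.isNilpotent
  inferInstance

theorem isSolvable_zpowers (a : G) : Group.IsSolvable (zpowers a) :=
  isSolvable_of_isMulCommutative _

/-- An element normalising `A` whose commutators with `A` lie in a subgroup meeting `A` trivially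
centralises `A`. -/
theorem mem_centralizer_of_disjoint {A K : Subgroup G} (hd : Disjoint A K) {c : G}
    (hc : MulAut.conj c • A = A) (hcK : ∀ a ∈ A, c * a * c⁻¹ * a⁻¹ ∈ K) :
    c ∈ centralizer (A : Set G) := by
  rw [mem_centralizer_iff]
  intro a ha
  have h1 : c * a * c⁻¹ ∈ A := by
    rw [← hc, mem_conj_smul]
    simpa [mul_assoc] using ha
  have h2 : c * a * c⁻¹ * a⁻¹ = 1 :=
    (Subgroup.disjoint_def.mp hd) (mul_mem h1 (inv_mem ha)) (hcK a ha)
  have h3 := mul_inv_eq_one.mp h2
  exact (mul_inv_eq_iff_eq_mul.mp h3).symm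

/-- Fixed points in a coset: if `A` normalises `N`, coprime orders, and all `[a, k]` lie in `N`,
then the coset `N k` holds an element centralised by `A`. Neither `k` nor anything else need
normalise `N`. -/
theorem exists_fixed_mul [Finite G] {A N : Subgroup G} (hAN : A ≤ normalizer (N : Set G))
    (hcop : (Nat.card A).Coprime (Nat.card N)) (hsolv : Group.IsSolvable A ∨ Group.IsSolvable N)
    {k : G} (hk : ∀ a ∈ A, a * k * a⁻¹ * k⁻¹ ∈ N) :
    ∃ n ∈ N, n * k ∈ centralizer (A : Set G) := by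
  have hB : MulAut.conj k • A ≤ A ⊔ N := by
    intro x hx
    rw [mem_conj_smul] at hx
    have h := hk _ (inv_mem hx)
    have : x = (k⁻¹ * x * k) * ((k⁻¹ * x * k)⁻¹ * k * (k⁻¹ * x * k)⁻¹⁻¹ * k⁻¹) := by group
    rw [this]
    exact mul_mem (mem_sup_left hx) (mem_sup_right h)
  obtain ⟨n, hn, hconj⟩ := exists_conj_eq_of_coprime hAN hcop hsolv hB (card_conj_smul _ _)
  refine ⟨n⁻¹, inv_mem hn, mem_centralizer_of_disjoint (disjoint_of_coprime_natCard hcop) ?_ ?_⟩
  · rw [conj_smul_mul, ← hconj, ← conj_smul_mul, inv_mul_cancel]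
    simp
  · intro a ha
    have e : n⁻¹ * k * a * (n⁻¹ * k)⁻¹ * a⁻¹ =
        n⁻¹ * (a * k * a⁻¹ * k⁻¹)⁻¹⁻¹⁻¹ * (a * n * a⁻¹) := by group
    rw [e, inv_inv]
    exact mul_mem (mul_mem (inv_mem hn) (inv_mem (hk a ha))) (mem_normalizer_conj_mem hAN ha hn)

/-- Fixed points in a quotient `K / N`: the left coset version. -/
theorem exists_mul_fixed [Finite G] {A N : Subgroup G} (hAN : A ≤ normalizer (N : Set G))
    (hcop : (Nat.card A).Coprime (Nat.card N)) (hsolv : Group.IsSolvable A ∨ Group.IsSolvable N)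
    {k : G} (hk : ∀ a ∈ A, k⁻¹ * (a * k * a⁻¹) ∈ N) :
    ∃ n ∈ N, k * n ∈ centralizer (A : Set G) := by
  obtain ⟨n, hn, h⟩ := exists_fixed_mul hAN hcop hsolv (k := k⁻¹) (fun a ha => by
    have := inv_mem (hk a ha)
    rw [inv_inv]
    simpa [mul_assoc] using this)
  exact ⟨n⁻¹, inv_mem hn, by simpa using inv_mem h⟩

/-- Fixed points in a product of invariant subgroups. -/
theorem exists_mul_eq_of_fixed [Finite G] {A X Y : Subgroup G}
    (hXA : A ≤ normalizer (X : Set G)) (hYA : A ≤ normalizer (Y : Set G))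
    (hcop : (Nat.card A).Coprime (Nat.card ↥(X ⊓ Y)))
    (hsolv : Group.IsSolvable A ∨ Group.IsSolvable ↥(X ⊓ Y))
    {x y : G} (hx : x ∈ X) (hy : y ∈ Y) (hfix : x * y ∈ centralizer (A : Set G)) :
    ∃ x' ∈ X ⊓ centralizer (A : Set G), ∃ y' ∈ Y ⊓ centralizer (A : Set G),
      x * y = x' * y' := by
  obtain ⟨n, hn, h⟩ := exists_mul_fixed (le_normalizer_inf hXA hYA) hcop hsolv (k := x)
    (fun a ha => by
      refine mem_inf.mpr ⟨mul_mem (inv_mem hx) (mem_normalizer_conj_mem hXA ha hx), ?_⟩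
      have hcomm : a * (x * y) = (x * y) * a := mem_centralizer_iff.mp hfix a ha
      have e : x⁻¹ * (a * x * a⁻¹) = y * (a * y⁻¹ * a⁻¹) := by
        calc x⁻¹ * (a * x * a⁻¹) = x⁻¹ * (a * (x * y) * a⁻¹) * (a * y⁻¹ * a⁻¹) := by group
          _ = y * (a * y⁻¹ * a⁻¹) := by rw [hcomm]; group
      rw [e]
      exact mul_mem hy (mem_normalizer_conj_mem hYA ha (inv_mem hy)))
  refine ⟨x * n, mem_inf.mpr ⟨mul_mem hx hn.1, h⟩, n⁻¹ * y,
    mem_inf.mpr ⟨mul_mem (inv_mem (mem_inf.mp hn).2) hy, ?_⟩, by group⟩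
  have : n⁻¹ * y = (x * n)⁻¹ * (x * y) := by group
  rw [this]
  exact mul_mem (inv_mem h) hfix

/-- **Glauberman's lemma**, existence. -/
theorem exists_fixed_point [Finite G] {A K : Subgroup G} {X : Type*} [MulAction G X] (S : Set X)
    (hS : S.Nonempty) (hAK : A ≤ normalizer (K : Set G))
    (hcop : (Nat.card A).Coprime (Nat.card K)) (hsolv : Group.IsSolvable A ∨ Group.IsSolvable K)
    (hA : ∀ a ∈ A, ∀ x ∈ S, a • x ∈ S) (hK : ∀ k ∈ K, ∀ x ∈ S, k • x ∈ S)
    (htr : ∀ x ∈ S, ∀ y ∈ S, ∃ k ∈ K, k • x = y) :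
    ∃ x ∈ S, ∀ a ∈ A, a • x = x := by
  obtain ⟨x, hx⟩ := hS
  set T := (A ⊔ K) ⊓ MulAction.stabilizer G x with hT
  have hTK : T ≤ normalizer (K : Set G) := inf_le_left.trans (sup_le hAK le_normalizer)
  have hA' : A ≤ T ⊔ K := by
    intro a ha
    obtain ⟨k, hk, hkx⟩ := htr _ (hA a ha x hx) x hx
    have h1 : k * a ∈ T :=
      mem_inf.mpr ⟨mul_mem (mem_sup_right hk) (mem_sup_left ha), by
        rw [MulAction.mem_stabilizer_iff, mul_smul, hkx]⟩
    have h2 : a = k⁻¹ * (k * a) := by group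
    rw [h2]
    exact mul_mem (mem_sup_right (inv_mem hk)) (mem_sup_left h1)
  have hsup : T ⊔ K = A ⊔ K :=
    le_antisymm (sup_le inf_le_left le_sup_right) (sup_le hA' le_sup_right)
  haveI : (K.subgroupOf T).Normal := normal_subgroupOf_of_le_normalizer hTK
  have hrel : ∀ H : Subgroup G, H ≤ normalizer (K : Set G) →
      K.relIndex (H ⊔ K) = K.relIndex H := by
    intro H hH
    have hHL : H ⊔ K ≤ normalizer (K : Set G) := sup_le hH le_normalizer
    haveI : (K.subgroupOf (H ⊔ K)).Normal :=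
      (normal_subgroupOf_iff_le_normalizer le_sup_right).mpr hHL
    have h1 := relIndex_sup_right (H.subgroupOf (H ⊔ K)) (K.subgroupOf (H ⊔ K))
    rw [← subgroupOf_sup le_sup_left le_sup_right, subgroupOf_self,
      relIndex_top_right] at h1
    rw [relIndex_subgroupOf le_sup_left] at h1
    exact h1
  have hidx : (K.subgroupOf T).index = Nat.card A := by
    show K.relIndex T = _
    rw [← hrel T hTK, hsup, hrel A hAK]
    show (K.subgroupOf A).index = _
    rw [← inf_subgroupOf_right, inf_comm, inf_eq_bot_of_coprime hcop, bot_subgroupOf, index_bot]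
  have hcopN : (Nat.card (K.subgroupOf T)).Coprime (K.subgroupOf T).index := by
    rw [hidx]
    refine Nat.Coprime.coprime_dvd_left ?_ hcop.symm
    rw [← inf_subgroupOf_right, Nat.card_congr (subgroupOfEquivOfLe inf_le_right).toEquiv]
    exact card_dvd_of_le inf_le_left
  obtain ⟨B, hB⟩ := exists_right_complement'_of_coprime hcopN
  have hBc : Nat.card (B.map T.subtype) = Nat.card A := by
    rw [Nat.card_congr (B.equivMapOfInjective _ T.subtype_injective).toEquiv.symm,
      ← hB.symm.index_eq_card, hidx]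
  obtain ⟨k, hk, hconj⟩ := exists_conj_eq_of_coprime hAK hcop hsolv
    ((map_subtype_le B).trans inf_le_left) hBc
  refine ⟨k⁻¹ • x, ?_, ?_⟩
  · exact hK _ (inv_mem hk) x hx
  · intro a ha
    have h1 : k * a * k⁻¹ ∈ B.map T.subtype := by
      rw [← hconj, mem_conj_smul]
      simpa [mul_assoc] using ha
    have h2 : (k * a * k⁻¹) • x = x := (mem_inf.mp (map_subtype_le B h1)).2
    calc a • k⁻¹ • x = k⁻¹ • (k * a * k⁻¹) • x := by rw [← mul_smul, ← mul_smul]; group
      _ = k⁻¹ • x := by rw [h2]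

/-- **Glauberman's lemma**, conjugacy: `C_K(A)` is transitive on the `A`-fixed points. -/
theorem exists_fixed_smul_eq [Finite G] {A K : Subgroup G} {X : Type*} [MulAction G X]
    (hAK : A ≤ normalizer (K : Set G))
    (hcop : (Nat.card A).Coprime (Nat.card K)) (hsolv : Group.IsSolvable A ∨ Group.IsSolvable K)
    {x y : X} (hxy : ∃ k ∈ K, k • x = y)
    (hx : ∀ a ∈ A, a • x = x) (hy : ∀ a ∈ A, a • y = y) :
    ∃ k ∈ K ⊓ centralizer (A : Set G), k • x = y := by
  obtain ⟨k, hk, hkxy⟩ := hxy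
  have hKy : A ≤ normalizer ((K ⊓ MulAction.stabilizer G y : Subgroup G) : Set G) :=
    le_normalizer_inf hAK (le_trans (fun a ha => hy a ha) le_normalizer)
  have hdvd : Nat.card ↥(K ⊓ MulAction.stabilizer G y) ∣ Nat.card K :=
    card_dvd_of_le inf_le_left
  obtain ⟨n, hn, h⟩ := exists_fixed_mul hKy (hcop.coprime_dvd_right hdvd)
    (hsolv.imp id fun h => @isSolvable_of_le _ _ _ _ inf_le_left h) (k := k)
    (fun a ha => mem_inf.mpr ⟨mul_mem (mem_normalizer_conj_mem hAK ha hk) (inv_mem hk), by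
      have h1 : a⁻¹ • x = x := hx _ (inv_mem ha)
      have h2 : k⁻¹ • y = x := by rw [← hkxy, inv_smul_smul]
      rw [MulAction.mem_stabilizer_iff, mul_smul, mul_smul, mul_smul, h2, h1, hkxy]
      exact hy a ha⟩)
  refine ⟨n * k, mem_inf.mpr ⟨mul_mem (mem_inf.mp hn).1 hk, h⟩, ?_⟩
  rw [mul_smul, hkxy]
  exact (mem_inf.mp hn).2

/-- The order of a Sylow `p`-subgroup of `K`, in ambient terms. -/
theorem card_sylow_map [Finite G] {K : Subgroup G} {p : ℕ} [Fact p.Prime] (P : Sylow p K) :
    Nat.card ((P : Subgroup K).map K.subtype) = p ^ (Nat.card K).factorization p := by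
  rw [Nat.card_congr ((P : Subgroup K).equivMapOfInjective _ K.subtype_injective).toEquiv.symm]
  exact P.card_eq_multiplicity

/-- A subgroup of `K` with the right order is a Sylow subgroup of `K`. -/
theorem exists_sylow_of_card [Finite G] {K H : Subgroup G} {p : ℕ} [Fact p.Prime] (hHK : H ≤ K)
    (hcard : Nat.card H = p ^ (Nat.card K).factorization p) :
    ∃ P : Sylow p K, (P : Subgroup K).map K.subtype = H :=
  ⟨Sylow.ofCard (H.subgroupOf K)
    (by rw [Nat.card_congr (subgroupOfEquivOfLe hHK).toEquiv, hcard]),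
    by rw [Sylow.coe_ofCard, subgroupOf_map_subtype, inf_eq_left.mpr hHK]⟩

/-- Two Sylow subgroups of `K` are conjugate by an element of `K`. -/
theorem exists_conj_sylow_map [Finite G] {K : Subgroup G} {p : ℕ} [Fact p.Prime]
    (P Q : Sylow p K) : ∃ k ∈ K,
      MulAut.conj k • ((P : Subgroup K).map K.subtype) = (Q : Subgroup K).map K.subtype := by
  obtain ⟨⟨k, hk⟩, hPQ⟩ := MulAction.exists_smul_eq K P Q
  exact ⟨k, hk, by rw [← hPQ, Sylow.coe_subgroup_smul, map_conj_smul, coe_subtype]⟩

theorem smul_eq_iff_le_normalizer {A H : Subgroup G} :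
    (∀ a ∈ A, MulAut.conj a • H = H) ↔ A ≤ normalizer (H : Set G) :=
  ⟨fun h a ha => mem_normalizer_of_conj_smul_eq (h a ha),
    fun h _ ha => conj_smul_eq_self_of_mem_normalizer (h ha)⟩

/-- Coprime action: an invariant Sylow subgroup exists. -/
theorem exists_invariant_sylow [Finite G] {A K : Subgroup G} (hAK : A ≤ normalizer (K : Set G))
    (hcop : (Nat.card A).Coprime (Nat.card K)) (hsolv : Group.IsSolvable A ∨ Group.IsSolvable K)
    (p : ℕ) [Fact p.Prime] :
    ∃ P : Sylow p K, A ≤ normalizer (((P : Subgroup K).map K.subtype : Subgroup G) : Set G) := by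
  letI : MulAction G (Subgroup G) := MulAction.compHom _ (MulAut.conj : G →* MulAut G)
  have hS : ∀ g ∈ normalizer (K : Set G),
      ∀ H ∈ Set.range (fun P : Sylow p K => (P : Subgroup K).map K.subtype),
      g • H ∈ Set.range (fun P : Sylow p K => (P : Subgroup K).map K.subtype) := by
    rintro g hg _ ⟨P, rfl⟩
    refine exists_sylow_of_card (H := MulAut.conj g • _) ?_ ?_
    · exact (pointwise_smul_le_pointwise_smul_iff.mpr (map_subtype_le _)).trans_eq
        (conj_smul_eq_self_of_mem_normalizer hg)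
    · rw [card_conj_smul, card_sylow_map]
  obtain ⟨_, ⟨P, rfl⟩, hP⟩ := exists_fixed_point
    (Set.range (fun P : Sylow p K => (P : Subgroup K).map K.subtype)) ⟨_, ⟨default, rfl⟩⟩
    hAK hcop hsolv (fun a ha => hS a (hAK ha)) (fun k hk => hS k (le_normalizer hk))
    (by rintro _ ⟨P, rfl⟩ _ ⟨Q, rfl⟩; exact exists_conj_sylow_map P Q)
  exact ⟨P, smul_eq_iff_le_normalizer.mp hP⟩

/-- Coprime action: invariant Sylow subgroups are conjugate under `C_K(A)`. -/
theorem exists_conj_invariant_sylow [Finite G] {A K : Subgroup G}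
    (hAK : A ≤ normalizer (K : Set G)) (hcop : (Nat.card A).Coprime (Nat.card K))
    (hsolv : Group.IsSolvable A ∨ Group.IsSolvable K) {p : ℕ} [Fact p.Prime] (P Q : Sylow p K)
    (hP : A ≤ normalizer (((P : Subgroup K).map K.subtype : Subgroup G) : Set G))
    (hQ : A ≤ normalizer (((Q : Subgroup K).map K.subtype : Subgroup G) : Set G)) :
    ∃ c ∈ K ⊓ centralizer (A : Set G),
      MulAut.conj c • ((P : Subgroup K).map K.subtype) = (Q : Subgroup K).map K.subtype := by
  letI : MulAction G (Subgroup G) := MulAction.compHom _ (MulAut.conj : G →* MulAut G)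
  exact exists_fixed_smul_eq hAK hcop hsolv (exists_conj_sylow_map P Q)
    (smul_eq_iff_le_normalizer.mpr hP) (smul_eq_iff_le_normalizer.mpr hQ)

/-- Coprime action: an invariant `p`-subgroup lies in an invariant Sylow subgroup. -/
theorem exists_invariant_sylow_ge [Finite G] {A K : Subgroup G}
    (hAK : A ≤ normalizer (K : Set G)) (hcop : (Nat.card A).Coprime (Nat.card K))
    (hsolv : Group.IsSolvable A ∨ Group.IsSolvable K) (p : ℕ) [Fact p.Prime] (U : Subgroup G)
    (hUK : U ≤ K) (hU : IsPGroup p U) (hUA : A ≤ normalizer (U : Set G)) :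
    ∃ P : Sylow p K, U ≤ (P : Subgroup K).map K.subtype ∧
      A ≤ normalizer (((P : Subgroup K).map K.subtype : Subgroup G) : Set G) := by
  obtain ⟨V, hUV, hV⟩ := Finite.exists_le_maximal
    (p := fun V : Subgroup G => V ≤ K ∧ IsPGroup p V ∧ A ≤ normalizer (V : Set G))
    ⟨hUK, hU, hUA⟩
  obtain ⟨⟨hVK, hVp, hVA⟩, hmax⟩ := hV
  set N := K ⊓ normalizer (V : Set G) with hN
  obtain ⟨P, hP⟩ := exists_invariant_sylow (K := N)
    (le_normalizer_inf hAK (hVA.trans le_normalizer)) (hcop.coprime_dvd_right (card_dvd_of_le inf_le_left))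
    (hsolv.imp id fun h => @isSolvable_of_le _ _ _ _ inf_le_left h) p
  have hVN : V ≤ N := le_inf hVK le_normalizer
  have hVn : (V.subgroupOf N).Normal := normal_subgroupOf_of_le_normalizer inf_le_right
  have hVp' : IsPGroup p (V.subgroupOf N) :=
    hVp.of_equiv (subgroupOfEquivOfLe hVN).symm
  have hVP : V ≤ (P : Subgroup N).map N.subtype := by
    have := Subgroup.map_mono (f := N.subtype) (hVp'.le_sylow_of_normal P)
    rwa [subgroupOf_map_subtype, inf_eq_left.mpr hVN] at this
  have hPK : (P : Subgroup N).map N.subtype ≤ K := (map_subtype_le _).trans inf_le_left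
  have hPV : (P : Subgroup N).map N.subtype = V :=
    le_antisymm (hmax ⟨hPK, P.2.map _, hP⟩ hVP) hVP
  -- `V` is Sylow in its normaliser, hence in `K`
  obtain ⟨Q, hQ⟩ := (hVp.of_equiv (subgroupOfEquivOfLe hVK).symm).exists_le_sylow
  refine ⟨Q, ?_, ?_⟩
  all_goals
    have hQV : (Q : Subgroup K).map K.subtype = V := by
      have hVQ : V ≤ (Q : Subgroup K).map K.subtype := by
        have := Subgroup.map_mono (f := K.subtype) hQ
        rwa [subgroupOf_map_subtype, inf_eq_left.mpr hVK] at this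
      have hQp : IsPGroup p ↥((Q : Subgroup K).map K.subtype) := Q.2.map _
      haveI := hQp.isNilpotent
      by_contra hne
      set Q' := (Q : Subgroup K).map K.subtype with hQ'
      have hlt : V.subgroupOf Q' < ⊤ := lt_top_iff_ne_top.mpr fun h =>
        hne (le_antisymm (subgroupOf_eq_top.mp h) hVQ)
      have h1 := Group.normalizerCondition_of_isNilpotent (G := Q') _ hlt
      obtain ⟨z, hz, hzV⟩ := SetLike.exists_of_lt h1
      set W := Q' ⊓ normalizer (V : Set G) with hW
      have hzn : (z : G) ∈ normalizer (V : Set G) := by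
        rw [mem_normalizer_iff]
        intro v
        constructor
        · intro hv
          exact (mem_normalizer_iff.mp hz ⟨v, hVQ hv⟩).mp hv
        · intro hv
          have hv' : v ∈ Q' := by
            have := mul_mem (mul_mem (inv_mem z.2) (hVQ hv)) z.2
            simpa [mul_assoc] using this
          exact (mem_normalizer_iff.mp hz ⟨v, hv'⟩).mpr hv
      have hWN : W ≤ N := inf_le_inf_right _ (map_subtype_le _)
      obtain ⟨P', hP'⟩ := (((hQp.to_le inf_le_left : IsPGroup p W)).of_equiv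
        (subgroupOfEquivOfLe hWN).symm).exists_le_sylow
      have hc : Nat.card W ≤ Nat.card V := by
        rw [← hPV, card_sylow_map, ← card_sylow_map P',
          ← Nat.card_congr (subgroupOfEquivOfLe hWN).toEquiv,
          Nat.card_congr ((P' : Subgroup N).equivMapOfInjective _ N.subtype_injective).toEquiv.symm]
        exact card_le_of_le hP'
      exact hzV ((eq_of_le_of_card_ge (le_inf hVQ le_normalizer) hc) ▸
        (mem_inf.mpr ⟨z.2, hzn⟩) : (z : G) ∈ V)
    first
    | exact hQV ▸ hUV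
    | exact hQV ▸ hVA

end Cfsg.Agent.Lib.Coprime
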