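import Cfsg.Agent.Lib.Coprime.Glauberman

/-!
Coprime action inside an ambient group: commutator subgroups `⁅K, A⁆`.
-/

namespace Cfsg.Agent.Lib.Coprime

open Subgroup
open scoped Pointwise commutatorElement

set_option linter.style.haveILetI false
set_option maxHeartbeats 400000

universe u

variable {G : Type u} [Group G]

theorem commutator_le_of_le_normalizer {A K : Subgroup G} (hAK : A ≤ normalizer (K : Set G)) :
    ⁅K, A⁆ ≤ K := le_normalizer_iff_commutator_le_left.mp hAK

/-- `K` normalises `⁅K, A⁆`, for any two subgroups. -/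
theorem left_le_normalizer_commutator (K A : Subgroup G) :
    K ≤ normalizer ((⁅K, A⁆ : Subgroup G) : Set G) := by
  rw [le_normalizer_iff]
  intro g hg x hx
  have : ⁅K, A⁆ ≤ Subgroup.comap (MulAut.conj g).toMonoidHom ⁅K, A⁆ := by
    rw [commutator_le]
    intro k hk a ha
    have e : g * ⁅k, a⁆ * g⁻¹ = ⁅g * k, a⁆ * (⁅g, a⁆)⁻¹ := by
      simp only [commutatorElement_def]; group
    show g * ⁅k, a⁆ * g⁻¹ ∈ ⁅K, A⁆
    rw [e]
    exact mul_mem (commutator_mem_commutator (mul_mem hg hk) ha)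
      (inv_mem (commutator_mem_commutator hg ha))
  exact this hx

theorem right_le_normalizer_commutator (K A : Subgroup G) :
    A ≤ normalizer ((⁅K, A⁆ : Subgroup G) : Set G) := by
  rw [commutator_comm]; exact left_le_normalizer_commutator A K

/-- `K = ⁅K, A⁆ C_K(A)` elementwise. -/
theorem exists_commutator_mul_fixed [Finite G] {A K : Subgroup G}
    (hAK : A ≤ normalizer (K : Set G)) (hcop : (Nat.card A).Coprime (Nat.card K))
    (hsolv : Group.IsSolvable A ∨ Group.IsSolvable K) {k : G} (hk : k ∈ K) :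
    ∃ n ∈ ⁅K, A⁆, ∃ c ∈ K ⊓ centralizer (A : Set G), k = n * c := by
  have hle := commutator_le_of_le_normalizer hAK
  obtain ⟨n, hn, h⟩ := exists_fixed_mul (right_le_normalizer_commutator K A)
    (hcop.coprime_dvd_right (card_dvd_of_le hle))
    (hsolv.imp id fun h => @isSolvable_of_le _ _ _ _ hle h) (k := k)
    (fun a ha => by
      rw [commutator_comm]
      exact commutator_mem_commutator ha hk)
  exact ⟨n⁻¹, inv_mem hn, n * k, mem_inf.mpr ⟨mul_mem (hle hn) hk, h⟩, by group⟩

/-- `K = ⁅K, A⁆ C_K(A)`. -/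
theorem commutator_sup_centralizer [Finite G] {A K : Subgroup G}
    (hAK : A ≤ normalizer (K : Set G)) (hcop : (Nat.card A).Coprime (Nat.card K))
    (hsolv : Group.IsSolvable A ∨ Group.IsSolvable K) :
    ⁅K, A⁆ ⊔ (K ⊓ centralizer (A : Set G)) = K := by
  refine le_antisymm (sup_le (commutator_le_of_le_normalizer hAK) inf_le_left) fun k hk => ?_
  obtain ⟨n, hn, c, hc, rfl⟩ := exists_commutator_mul_fixed hAK hcop hsolv hk
  exact mul_mem (mem_sup_left hn) (mem_sup_right hc)

/-- `⁅⁅K, A⁆, A⁆ = ⁅K, A⁆`. -/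
theorem commutator_commutator_eq [Finite G] {A K : Subgroup G}
    (hAK : A ≤ normalizer (K : Set G)) (hcop : (Nat.card A).Coprime (Nat.card K))
    (hsolv : Group.IsSolvable A ∨ Group.IsSolvable K) : ⁅⁅K, A⁆, A⁆ = ⁅K, A⁆ := by
  refine le_antisymm (commutator_mono (commutator_le_of_le_normalizer hAK) le_rfl) ?_
  rw [commutator_le]
  intro k hk a ha
  obtain ⟨n, hn, c, hc, rfl⟩ := exists_commutator_mul_fixed hAK hcop hsolv hk
  have hca : a * c = c * a := mem_centralizer_iff.mp (mem_inf.mp hc).2 a ha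
  have e : ⁅n * c, a⁆ = ⁅n, a⁆ := by
    simp only [commutatorElement_def]
    calc n * c * a * (n * c)⁻¹ * a⁻¹ = n * (c * a) * c⁻¹ * n⁻¹ * a⁻¹ := by group
      _ = n * a * n⁻¹ * a⁻¹ := by rw [← hca]; group
  rw [e]
  exact commutator_mem_commutator hn ha

/-- A group of automorphisms stabilising the series `K ≥ ⁅K, A⁆ ≥ 1` is trivial; only the order of
`⁅K, A⁆` needs to be coprime to that of `A`. -/
theorem le_centralizer_of_commutator_commutator [Finite G] {A K : Subgroup G}
    (hcop : (Nat.card A).Coprime (Nat.card (⁅K, A⁆ : Subgroup G))) (h : ⁅⁅K, A⁆, A⁆ = ⊥) :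
    A ≤ centralizer (K : Set G) := by
  intro a ha
  rw [mem_centralizer_iff]
  intro k hk
  have hza : zpowers a ≤ A := zpowers_le.mpr ha
  obtain ⟨n, hn, hfix⟩ := exists_fixed_mul (A := zpowers a)
    (hza.trans (right_le_normalizer_commutator K A)) (hcop.coprime_dvd_left (card_dvd_of_le hza))
    (Or.inl (isSolvable_zpowers a)) (k := k)
    (fun b hb => by
      rw [commutator_comm]
      exact commutator_mem_commutator (hza hb) hk)
  have h1 : a * (n * k) = n * k * a := mem_centralizer_iff.mp hfix a (mem_zpowers a)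
  have h2 : a * n = n * a :=
    mem_centralizer_iff.mp ((commutator_eq_bot_iff_le_centralizer.mp h) hn) a ha
  rw [← mul_assoc, h2, mul_assoc, mul_assoc] at h1
  exact (mul_left_cancel h1).symm

/-- If `A` centralises `N` and acts trivially on `K / N`, it centralises `K`. -/
theorem le_centralizer_of_series [Finite G] {A K N : Subgroup G}
    (hcop : (Nat.card A).Coprime (Nat.card N)) (h : ⁅K, A⁆ ≤ N) (hN : ⁅N, A⁆ = ⊥) :
    A ≤ centralizer (K : Set G) :=
  le_centralizer_of_commutator_commutator (hcop.coprime_dvd_right (card_dvd_of_le h))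
    (le_bot_iff.mp (hN ▸ commutator_mono h le_rfl))

/-- If `A` acts trivially on `K / Φ(K)` with order coprime to that of `Φ(K)`, it centralises `K`. -/
theorem le_centralizer_of_frattini [Finite G] {A K : Subgroup G}
    (hAK : A ≤ normalizer (K : Set G)) (hcop : (Nat.card A).Coprime (Nat.card (frattini K)))
    (htriv : ∀ a ∈ A, ∀ k ∈ K, a * k * a⁻¹ * k⁻¹ ∈ (frattini K).map K.subtype) :
    A ≤ centralizer (K : Set G) := by
  intro a ha
  rw [mem_centralizer_iff]
  intro k hk
  have hza : zpowers a ≤ A := zpowers_le.mpr ha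
  have hcard : Nat.card ((frattini K).map K.subtype) = Nat.card (frattini K) :=
    (Nat.card_congr ((frattini K).equivMapOfInjective _ K.subtype_injective).toEquiv).symm
  have hN : zpowers a ≤ normalizer (((frattini K).map K.subtype : Subgroup G) : Set G) := by
    refine (le_normalizer_iff.mpr ?_)
    intro b hb x hx
    obtain ⟨⟨y, hyK⟩, hy, rfl⟩ := hx
    have hbK : b ∈ normalizer (K : Set G) := hAK (hza hb)
    exact ⟨⟨b * y * b⁻¹, (mem_normalizer_iff.mp hbK y).mp hyK⟩,
      Subgroup.characteristic_iff_map_le.mp inferInstance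
        (K.normalizerMonoidHom ⟨b, hbK⟩) ⟨⟨y, hyK⟩, hy, rfl⟩, rfl⟩
  set C := (K ⊓ centralizer (zpowers a : Set G)).subgroupOf K with hC
  have : C ⊔ frattini K = ⊤ := by
    rw [eq_top_iff]
    rintro ⟨x, hx⟩ -
    obtain ⟨n, hn, hfix⟩ := exists_fixed_mul hN
      (by rw [hcard]; exact hcop.coprime_dvd_left (card_dvd_of_le hza))
      (Or.inl (isSolvable_zpowers a)) (k := x) (fun b hb => htriv b (hza hb) x hx)
    obtain ⟨⟨n, hnK⟩, hn', rfl⟩ := hn
    have h1 : (⟨n * x, mul_mem hnK hx⟩ : K) ∈ C := mem_inf.mpr ⟨mul_mem hnK hx, hfix⟩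
    have h2 : (⟨x, hx⟩ : K) = ⟨n, hnK⟩⁻¹ * ⟨n * x, mul_mem hnK hx⟩ := by
      apply Subtype.ext; simp
    rw [h2]
    exact mul_mem (mem_sup_right (inv_mem hn')) (mem_sup_left h1)
  have h1 : (⟨k, hk⟩ : K) ∈ C := frattini_nongenerating this ▸ mem_top _
  exact (mem_centralizer_iff.mp (mem_inf.mp h1).2 a (mem_zpowers a)).symm

open scoped IsMulCommutative in
/-- Coprime action on an abelian group: `C_V(A) ∩ ⁅V, A⁆ = 1`. -/
theorem centralizer_inf_commutator_eq_bot [Finite G] {A V : Subgroup G} [IsMulCommutative V]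
    (hAV : A ≤ normalizer (V : Set G)) (hcop : (Nat.card A).Coprime (Nat.card V)) :
    (V ⊓ centralizer (A : Set G)) ⊓ ⁅V, A⁆ = ⊥ := by
  classical
  haveI : Fintype A := Fintype.ofFinite A
  let c : A → V →* V := fun a => (V.normalizerMonoidHom ⟨a, hAV a.2⟩).toMonoidHom
  let φ : V →* V := ∏ a : A, c a
  have hφ : ∀ v : V, φ v = ∏ a : A, c a v := fun v => MonoidHom.finsetProd_apply _ _ _
  have hcval : ∀ (a : A) (v : V), (c a v : G) = a * v * (a : G)⁻¹ := fun _ _ => rfl
  have hker : ⁅V, A⁆ ≤ φ.ker.map V.subtype := by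
    rw [commutator_le]
    intro v hv b hb
    have hmem : b * v⁻¹ * b⁻¹ ∈ V := mem_normalizer_conj_mem hAV hb (inv_mem hv)
    refine ⟨⟨v, hv⟩ * ⟨b * v⁻¹ * b⁻¹, hmem⟩, ?_, ?_⟩
    · rw [SetLike.mem_coe, MonoidHom.mem_ker, map_mul, hφ, hφ]
      have e : ∀ a : A, c a ⟨b * v⁻¹ * b⁻¹, hmem⟩ = (c (a * ⟨b, hb⟩) ⟨v, hv⟩)⁻¹ := by
        intro a
        apply Subtype.ext
        rw [hcval, Subgroup.coe_inv, hcval]
        simp [mul_assoc]
      simp only [e, Finset.prod_inv_distrib]
      rw [mul_inv_eq_one]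
      exact (Fintype.prod_equiv (Equiv.mulRight (⟨b, hb⟩ : A)) _ _ (fun a => rfl)).symm
    · simp [commutatorElement_def, mul_assoc]
  rw [eq_bot_iff]
  intro x hx
  obtain ⟨hx1, hx2⟩ := mem_inf.mp hx
  obtain ⟨hxV, hxC⟩ := mem_inf.mp hx1
  obtain ⟨y, hy, hyx⟩ := hker hx2
  have hy1 : φ y = 1 := hy
  have hy2 : ∀ a : A, c a y = y := by
    intro a
    apply Subtype.ext
    rw [hcval]
    have := mem_centralizer_iff.mp hxC a a.2
    simp only [coe_subtype] at hyx
    rw [hyx, this]; group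
  rw [hφ, Finset.prod_congr rfl (fun a _ => hy2 a), Finset.prod_const, Finset.card_univ,
    ← Nat.card_eq_fintype_card] at hy1
  have : y = 1 := (powCoprime hcop.symm).injective (by simpa [powCoprime] using hy1)
  rw [mem_bot, ← hyx, this, coe_subtype, Subgroup.coe_one]

/-- Coprime action on an abelian group: `V = C_V(A) ⊕ ⁅V, A⁆`. -/
theorem centralizer_sup_commutator [Finite G] {A V : Subgroup G} [IsMulCommutative V]
    (hAV : A ≤ normalizer (V : Set G)) (hcop : (Nat.card A).Coprime (Nat.card V)) :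
    (V ⊓ centralizer (A : Set G)) ⊔ ⁅V, A⁆ = V := by
  rw [sup_comm]
  exact commutator_sup_centralizer hAV hcop (Or.inr (isSolvable_of_isMulCommutative V))

/-- An abelian `p'`-automorphism group centralising all elements of prime order is trivial. -/
theorem le_centralizer_of_prime_order [Finite G] {A V : Subgroup G} [IsMulCommutative V]
    (hAV : A ≤ normalizer (V : Set G)) (hcop : (Nat.card A).Coprime (Nat.card V))
    (hΩ : ∀ v ∈ V, (orderOf v).Prime → ∀ a ∈ A, a * v = v * a) :
    A ≤ centralizer (V : Set G) := by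
  rw [le_centralizer_iff, ← commutator_eq_bot_iff_le_centralizer]
  by_contra hne
  have h1 : 1 < Nat.card (⁅V, A⁆ : Subgroup G) := (one_lt_card_iff_ne_bot _).mpr hne
  haveI : Fact (Nat.card (⁅V, A⁆ : Subgroup G)).minFac.Prime := ⟨Nat.minFac_prime (by omega)⟩
  obtain ⟨x, hx⟩ := exists_prime_orderOf_dvd_card'
    (G := (⁅V, A⁆ : Subgroup G)) _ (Nat.minFac_dvd _)
  have hxV : (x : G) ∈ V := commutator_le_of_le_normalizer hAV x.2
  have hp : (orderOf (x : G)).Prime := by
    rw [Subgroup.orderOf_coe, hx]; exact Fact.out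
  have hxC : (x : G) ∈ V ⊓ centralizer (A : Set G) :=
    mem_inf.mpr ⟨hxV, mem_centralizer_iff.mpr (hΩ _ hxV hp)⟩
  have : (x : G) ∈ (⊥ : Subgroup G) := by
    rw [← centralizer_inf_commutator_eq_bot hAV hcop]; exact mem_inf.mpr ⟨hxC, x.2⟩
  rw [mem_bot] at this
  rw [this, orderOf_one] at hp
  exact Nat.not_prime_one hp

end Cfsg.Agent.Lib.Coprime
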