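import Cfsg.Agent.Lib.Coprime.Commutator

/-!
Coprime action of abelian groups: generation by centralisers.
-/

namespace Cfsg.Agent.Lib.Coprime

open Subgroup
open scoped Pointwise commutatorElement

set_option linter.style.haveILetI false
set_option maxHeartbeats 400000

universe u

variable {G : Type u} [Group G]

/-- The combinatorial identity behind generation by centralisers: the `q + 1` lines through the
origin of a `q × q` grid cover everything once and the origin `q + 1` times. -/
theorem prod_lines {M : Type*} [CommGroup M] (q : ℕ) [Fact q.Prime] (w : ZMod q → ZMod q → M) :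
    (∏ t : ZMod q, ∏ i : ZMod q, w i (t * i)) * (∏ j : ZMod q, w 0 j) =
      w 0 0 ^ q * ∏ i : ZMod q, ∏ j : ZMod q, w i j := by
  rw [Finset.prod_comm, ← Finset.mul_prod_erase Finset.univ _ (Finset.mem_univ 0),
    ← Finset.mul_prod_erase Finset.univ (fun i => ∏ j : ZMod q, w i j) (Finset.mem_univ 0)]
  have h : ∀ i ∈ (Finset.univ : Finset (ZMod q)).erase 0,
      ∏ t : ZMod q, w i (t * i) = ∏ j : ZMod q, w i j := by
    intro i hi
    exact Fintype.prod_equiv (Equiv.mulRight₀ i (Finset.ne_of_mem_erase hi)) _ _ (fun t => rfl)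
  rw [Finset.prod_congr rfl h]
  simp only [mul_zero, Finset.prod_const, Finset.card_univ, ZMod.card]
  ac_rfl

/-- The join of the centralisers in `K` of the elements `f` and `e f^t`, `t < q`. -/
def lineCentralizers (K : Subgroup G) (q : ℕ) (e f : G) : Subgroup G :=
  (K ⊓ centralizer {f}) ⊔ ⨆ t : ZMod q, K ⊓ centralizer {e * f ^ t.val}

theorem lineCentralizers_mono {K L : Subgroup G} (h : L ≤ K) (q : ℕ) (e f : G) :
    lineCentralizers L q e f ≤ lineCentralizers K q e f :=
  sup_le_sup (inf_le_inf_right _ h) (iSup_mono fun _ => inf_le_inf_right _ h)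

theorem lineCentralizers_le (K : Subgroup G) (q : ℕ) (e f : G) : lineCentralizers K q e f ≤ K :=
  sup_le inf_le_left (iSup_le fun _ => inf_le_left)

/-- Generation for solvable `K`. -/
theorem le_lineCentralizers_of_isSolvable [Finite G] {q : ℕ} [Fact q.Prime] {e f : G}
    (hef : Commute e f) : ∀ (n : ℕ) (K : Subgroup G), Nat.card K = n → Group.IsSolvable K →
      e ∈ normalizer (K : Set G) → f ∈ normalizer (K : Set G) →
      e ^ q ∈ centralizer (K : Set G) → f ^ q ∈ centralizer (K : Set G) →
      (Nat.card (closure ({e, f} : Set G))).Coprime (Nat.card K) → q.Coprime (Nat.card K) →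
      K ≤ lineCentralizers K q e f := by
  intro n
  induction n using Nat.strong_induction_on with
  | _ n IH =>
    intro K hn hsolv he hf heq hfq hcop hqK
    by_cases hK : K = ⊥
    · rw [hK]; exact bot_le
    set D := ⁅K, K⁆ with hD
    have hDK : D ≤ K := commutator_le_self K
    have hDlt : Nat.card D < Nat.card K := by
      have : Nontrivial K := (Subgroup.nontrivial_iff_ne_bot K).mpr hK
      have h1 := Group.IsSolvable.commutator_lt_top_of_nontrivial K
      refine lt_of_not_ge fun h => h1.ne ?_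
      apply map_injective K.subtype_injective
      rw [map_subtype_commutator, ← MonoidHom.range_eq_map, range_subtype]
      exact eq_of_le_of_card_ge hDK h
    have hnormD : normalizer (K : Set G) ≤ normalizer (D : Set G) := fun g hg => by
      apply mem_normalizer_of_conj_smul_eq
      rw [hD, conj_smul_eq_map, map_commutator, ← conj_smul_eq_map,
        conj_smul_eq_self_of_mem_normalizer hg]
    set S := lineCentralizers K q e f with hS
    have hDS : D ≤ S := (IH (Nat.card D) (hn ▸ hDlt) D rfl (isSolvable_of_le hDK) (hnormD he)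
      (hnormD hf) (centralizer_le hDK heq) (centralizer_le hDK hfq)
      (hcop.coprime_dvd_right (card_dvd_of_le hDK))
      (hqK.coprime_dvd_right (card_dvd_of_le hDK))).trans (lineCentralizers_mono hDK q e f)
    set E := closure ({e, f} : Set G) with hE
    have hEK : E ≤ normalizer (K : Set G) := by
      rw [hE, closure_le]; exact Set.insert_subset he (Set.singleton_subset_iff.mpr hf)
    -- the abelianisation, with the induced action
    let π : K →* Abelianization K := Abelianization.of
    have hπker : ∀ x : K, π x = 1 → (x : G) ∈ D := by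
      intro x hx
      have h1 : x ∈ commutator K := by rw [← Abelianization.ker_of]; exact hx
      rw [hD, ← map_subtype_commutator]
      exact mem_map_of_mem _ h1
    -- a point of `K / D` fixed by `g` lifts into `S`
    have hlift : ∀ (g : G) (hg : g ∈ E), K ⊓ centralizer {g} ≤ S → ∀ x : K,
        π (K.normalizerMonoidHom ⟨g, hEK hg⟩ x) = π x → (x : G) ∈ S := by
      intro g hg hgS x hx
      have hza : zpowers g ≤ E := zpowers_le.mpr hg
      have hkey : ∀ b ∈ zpowers g, (b : G) * x * b⁻¹ * (x : G)⁻¹ ∈ D := by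
        intro b hb
        have hbK : b ∈ normalizer (K : Set G) := hEK (hza hb)
        suffices h : π (K.normalizerMonoidHom ⟨b, hbK⟩ x) = π x by
          have h2 := hπker (K.normalizerMonoidHom ⟨b, hbK⟩ x * x⁻¹)
            (by rw [map_mul, map_inv, h, mul_inv_cancel])
          exact h2
        obtain ⟨m, rfl⟩ := mem_powers_iff_mem_zpowers.mpr hb
        induction m with
        | zero =>
          have e1 : (⟨g ^ 0, hbK⟩ : normalizer (K : Set G)) = 1 := Subtype.ext (pow_zero g)
          rw [e1, map_one]; rfl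
        | succ m ih =>
          have hm : g ^ m ∈ normalizer (K : Set G) := pow_mem (hEK hg) m
          have e1 : (⟨g ^ (m + 1), hbK⟩ : normalizer (K : Set G)) =
              ⟨g, hEK hg⟩ * ⟨g ^ m, hm⟩ := by
            apply Subtype.ext; simp [pow_succ']
          have h2 := congrArg
            (Abelianization.map (K.normalizerMonoidHom ⟨g, hEK hg⟩).toMonoidHom)
            (ih (pow_mem (mem_zpowers g) m) hm)
          rw [e1, map_mul, MulAut.mul_apply]
          exact h2.trans hx
      obtain ⟨d, hd, hfix⟩ := exists_fixed_mul (A := zpowers g) (N := D)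
        ((hza.trans hEK).trans hnormD)
        ((hcop.coprime_dvd_left (card_dvd_of_le hza)).coprime_dvd_right (card_dvd_of_le hDK))
        (Or.inl (isSolvable_zpowers g)) hkey
      have h1 : d * x ∈ S := hgS (mem_inf.mpr ⟨mul_mem (hDK hd) x.2,
        centralizer_le (Set.singleton_subset_iff.mpr (mem_zpowers g)) hfix⟩)
      simpa using mul_mem (inv_mem (hDS hd)) h1
    intro v hv
    let σ : ZMod q → ZMod q → K := fun i j =>
      K.normalizerMonoidHom ⟨e ^ i.val * f ^ j.val,
        mul_mem (pow_mem he _) (pow_mem hf _)⟩ ⟨v, hv⟩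
    have hq : 0 < q := (Fact.out : q.Prime).pos
    haveI : NeZero q := ⟨hq.ne'⟩
    have hσ : ∀ (a b : ℕ), (σ (a : ZMod q) (b : ZMod q) : G) =
        e ^ a * f ^ b * v * (e ^ a * f ^ b)⁻¹ := by
      intro a b
      show e ^ (a : ZMod q).val * f ^ (b : ZMod q).val * v *
        (e ^ (a : ZMod q).val * f ^ (b : ZMod q).val)⁻¹ = _
      have hz : ∀ (x : G) (m : ℕ), x ^ q ∈ centralizer (K : Set G) →
          ∀ w ∈ K, x ^ m * w * (x ^ m)⁻¹ = x ^ (m : ZMod q).val * w * (x ^ (m : ZMod q).val)⁻¹ := by
        intro x m hxq w hw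
        rw [ZMod.val_natCast]
        conv_lhs => rw [← Nat.mod_add_div m q, pow_add, pow_mul]
        have hc : w * (x ^ q) ^ (m / q) = (x ^ q) ^ (m / q) * w :=
          mem_centralizer_iff.mp (pow_mem hxq _) w hw
        calc x ^ (m % q) * (x ^ q) ^ (m / q) * w * (x ^ (m % q) * (x ^ q) ^ (m / q))⁻¹
            = x ^ (m % q) * ((x ^ q) ^ (m / q) * w) * ((x ^ q) ^ (m / q))⁻¹ * (x ^ (m % q))⁻¹ := by
              group
          _ = x ^ (m % q) * (w * (x ^ q) ^ (m / q)) * ((x ^ q) ^ (m / q))⁻¹ * (x ^ (m % q))⁻¹ := by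
              rw [hc]
          _ = _ := by group
      have hw1 : f ^ b * v * (f ^ b)⁻¹ ∈ K :=
        (mem_normalizer_iff.mp (pow_mem hf b) v).mp hv
      have h1 := hz e a heq _ hw1
      have h2 := hz f b hfq v hv
      calc _ = e ^ (a : ZMod q).val * (f ^ (b : ZMod q).val * v * (f ^ (b : ZMod q).val)⁻¹) *
            (e ^ (a : ZMod q).val)⁻¹ := by group
        _ = e ^ a * (f ^ b * v * (f ^ b)⁻¹) * (e ^ a)⁻¹ := by rw [← h2, ← h1]
        _ = _ := by group
    let w : ZMod q → ZMod q → Abelianization K := fun i j => π (σ i j)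
    let α : ∀ g ∈ E, Abelianization K →* Abelianization K := fun g hg =>
      Abelianization.map (K.normalizerMonoidHom ⟨g, hEK hg⟩).toMonoidHom
    have heE : e ∈ E := subset_closure (Set.mem_insert _ _)
    have hfE : f ∈ E := subset_closure (Set.mem_insert_of_mem _ rfl)
    have hshift : ∀ (t s : ℕ) (hg : e ^ t * f ^ s ∈ E) (i j : ZMod q),
        α _ hg (w i j) = w (i + (t : ZMod q)) (j + (s : ZMod q)) := by
      intro t s hg i j
      show π (K.normalizerMonoidHom ⟨e ^ t * f ^ s, hEK hg⟩ (σ i j)) = _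
      congr 1
      apply Subtype.ext
      have h1 := hσ i.val j.val
      rw [ZMod.natCast_zmod_val, ZMod.natCast_zmod_val] at h1
      have h2 := hσ (t + i.val) (s + j.val)
      rw [Nat.cast_add, Nat.cast_add, ZMod.natCast_zmod_val, ZMod.natCast_zmod_val,
        add_comm (t : ZMod q), add_comm (s : ZMod q)] at h2
      have h3 : e ^ t * f ^ s * (e ^ i.val * f ^ j.val) = e ^ (t + i.val) * f ^ (s + j.val) := by
        rw [pow_add, pow_add]
        calc e ^ t * f ^ s * (e ^ i.val * f ^ j.val) = e ^ t * (f ^ s * e ^ i.val) * f ^ j.val := by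
              group
          _ = e ^ t * (e ^ i.val * f ^ s) * f ^ j.val := by
              rw [((hef.pow_pow i.val s).symm).eq]
          _ = _ := by group
      show e ^ t * f ^ s * (σ i j : G) * (e ^ t * f ^ s)⁻¹ = _
      rw [h1, h2, ← h3]; group
    have hf1 : e ^ 0 * f ^ 1 ∈ E := by simpa using hfE
    have hlineF : ∀ i : ZMod q, ∀ x : K, π x = ∏ j : ZMod q, w i j → (x : G) ∈ S := by
      intro i x hx
      refine hlift _ hf1 (by simp only [pow_zero, one_mul, pow_one]; exact le_sup_left) x ?_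
      show α _ hf1 (π x) = π x
      rw [hx, map_prod]
      simp only [hshift, Nat.cast_zero, add_zero, Nat.cast_one]
      exact Fintype.prod_equiv (Equiv.addRight 1) _ _ (fun j => rfl)
    have het : ∀ t : ZMod q, e ^ 1 * f ^ t.val ∈ E := fun t => by
      simpa using mul_mem heE (pow_mem hfE t.val)
    have hlineT : ∀ t : ZMod q, ∀ x : K, π x = ∏ i : ZMod q, w i (t * i) → (x : G) ∈ S := by
      intro t x hx
      refine hlift _ (het t) ?_ x ?_
      · rw [pow_one]
        exact le_sup_of_le_right (le_iSup (fun t : ZMod q => K ⊓ centralizer {e * f ^ t.val}) t)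
      show α _ (het t) (π x) = π x
      rw [hx, map_prod]
      simp only [hshift, Nat.cast_one, ZMod.natCast_zmod_val]
      refine Fintype.prod_equiv (Equiv.addRight 1) _ _ (fun i => ?_)
      show w (i + 1) (t * i + t) = w (i + 1) (t * (i + 1))
      rw [mul_add, mul_one]
    -- the subgroup of the abelianisation covered by `S`
    set T := (S.subgroupOf K).map π with hT
    have hπs : Function.Surjective π := fun y =>
      QuotientGroup.induction_on y fun z => ⟨z, rfl⟩
    have hmemT : ∀ y : Abelianization K, (∀ x : K, π x = y → (x : G) ∈ S) → y ∈ T := by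
      intro y hy
      obtain ⟨x, rfl⟩ := hπs y
      exact mem_map_of_mem _ (hy x rfl)
    have hq' : (π ⟨v, hv⟩) ^ q ∈ T := by
      have hw00 : w 0 0 = π ⟨v, hv⟩ := by
        show π _ = _
        congr 1
        apply Subtype.ext
        have := hσ 0 0
        simpa using this
      have := prod_lines q w
      rw [hw00, ← mul_inv_eq_iff_eq_mul] at this
      rw [← this]
      exact mul_mem (mul_mem (prod_mem fun t _ => hmemT _ (hlineT t)) (hmemT _ (hlineF 0)))
        (inv_mem (prod_mem fun i _ => hmemT _ (hlineF i)))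
    have hord : q.Coprime (orderOf (π ⟨v, hv⟩)) :=
      hqK.coprime_dvd_right ((orderOf_map_dvd π _).trans (orderOf_dvd_natCard _))
    obtain ⟨m, hm⟩ := exists_pow_eq_self_of_coprime hord
    have hmem : π ⟨v, hv⟩ ∈ T := hm ▸ pow_mem hq' m
    obtain ⟨x, hxS, hx⟩ := hmem
    have := hπker (⟨v, hv⟩ * x⁻¹) (by rw [map_mul, map_inv, hx, mul_inv_cancel])
    simpa using mul_mem (hDS this) (show (x : G) ∈ S from hxS)

/-- If the subgroup `S` contains, for every prime, some Sylow subgroup of `K`, it contains `K`. -/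
theorem le_of_forall_sylow [Finite G] {K S : Subgroup G}
    (h : ∀ p : ℕ, p.Prime → ∃ P : Sylow p K, (P : Subgroup K).map K.subtype ≤ S) : K ≤ S := by
  rw [← inf_eq_left]
  refine eq_of_le_of_card_ge inf_le_left (Nat.le_of_dvd Nat.card_pos ?_)
  rw [← Nat.factorization_le_iff_dvd Nat.card_pos.ne' Nat.card_pos.ne', Finsupp.le_def]
  intro p
  by_cases hp : p.Prime
  · haveI := Fact.mk hp
    obtain ⟨P, hP⟩ := h p hp
    have hd := card_dvd_of_le (le_inf (map_subtype_le (P : Subgroup K)) hP)
    rw [card_sylow_map] at hd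
    exact (hp.pow_dvd_iff_le_factorization Nat.card_pos.ne').mp hd
  · simp [Nat.factorization_eq_zero_of_not_prime _ hp]

/-- Generation by the centralisers of the lines of `⟨e, f⟩`, for arbitrary `K`. -/
theorem le_lineCentralizers [Finite G] {q : ℕ} [Fact q.Prime] {e f : G} (hef : Commute e f)
    {K : Subgroup G} (he : e ∈ normalizer (K : Set G)) (hf : f ∈ normalizer (K : Set G))
    (heq : e ^ q ∈ centralizer (K : Set G)) (hfq : f ^ q ∈ centralizer (K : Set G))
    (hcop : (Nat.card (closure ({e, f} : Set G))).Coprime (Nat.card K))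
    (hqK : q.Coprime (Nat.card K)) : K ≤ lineCentralizers K q e f := by
  set E := closure ({e, f} : Set G) with hE
  have hEc : IsMulCommutative E := by
    rw [← le_centralizer_iff_isMulCommutative, hE, closure_le]
    intro x hx
    simp only [SetLike.mem_coe]
    rw [centralizer_closure, mem_centralizer_iff]
    intro y hy
    rcases hx with rfl | rfl <;> rcases hy with rfl | rfl
    · rfl
    · exact hef.eq.symm
    · exact hef.eq
    · rfl
  have hEK : E ≤ normalizer (K : Set G) := by
    rw [hE, closure_le]; exact Set.insert_subset he (Set.singleton_subset_iff.mpr hf)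
  apply le_of_forall_sylow
  intro p hp
  haveI := Fact.mk hp
  obtain ⟨P, hP⟩ := exists_invariant_sylow hEK hcop (Or.inl (isSolvable_of_isMulCommutative E)) p
  refine ⟨P, le_trans ?_ (lineCentralizers_mono (map_subtype_le (P : Subgroup K)) q e f)⟩
  have hdvd := card_dvd_of_le (map_subtype_le (P : Subgroup K))
  exact le_lineCentralizers_of_isSolvable hef _ _ rfl (isSolvable_of_isPGroup (P.2.map _))
    (hP (subset_closure (Set.mem_insert _ _)))
    (hP (subset_closure (Set.mem_insert_of_mem _ rfl)))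
    (centralizer_le (map_subtype_le _) heq) (centralizer_le (map_subtype_le _) hfq)
    (hcop.coprime_dvd_right hdvd) (hqK.coprime_dvd_right hdvd)

/-- A finite abelian group with at most `q` solutions of `x ^ q = 1` for each prime `q` is
cyclic. -/
theorem isCyclic_of_card_prime_pow_eq_one_le {α : Type*} [CommGroup α] [Finite α]
    (h : ∀ q : ℕ, q.Prime → Nat.card {x : α // x ^ q = 1} ≤ q) : IsCyclic α := by
  classical
  haveI : Fintype α := Fintype.ofFinite α
  apply isCyclic_of_card_pow_eq_one_le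
  intro n
  induction n using Nat.strong_induction_on with
  | _ n IH =>
    intro hn
    rcases Nat.lt_or_ge n 2 with h2 | h2
    · obtain rfl : n = 1 := by omega
      rw [Finset.card_le_one]
      intro a ha b hb
      simp_all
    obtain ⟨q, hq, m, rfl⟩ := Nat.exists_prime_and_dvd (show n ≠ 1 by omega)
    have hm : 0 < m := Nat.pos_of_mul_pos_left (by omega)
    have hmlt : m < q * m := lt_mul_left hm hq.one_lt
    refine (Finset.card_le_mul_card_image_of_maps_to (f := fun x : α => x ^ q)
      (t := ({x : α | x ^ m = 1} : Finset α)) ?_ q ?_).trans (Nat.mul_le_mul_left q (IH m hmlt hm))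
    · intro x hx
      simp only [Finset.mem_filter, Finset.mem_univ, true_and] at hx ⊢
      rw [← pow_mul, hx]
    · intro y _
      rcases Finset.eq_empty_or_nonempty
        (({x : α | x ^ (q * m) = 1} : Finset α).filter fun x => x ^ q = y) with h0 | ⟨x₀, hx₀⟩
      · simp [h0]
      have hx₀' : x₀ ^ q = y := (Finset.mem_filter.mp hx₀).2
      refine le_trans ?_ (h q hq)
      rw [Nat.card_eq_fintype_card, Fintype.card_subtype]
      refine Finset.card_le_card_of_injOn (fun x => x * x₀⁻¹) ?_ ?_
      · intro x hx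
        have hx' : x ^ q = y := (Finset.mem_filter.mp hx).2
        simp [mul_pow, hx', hx₀']
      · intro a _ b _ hab
        exact mul_right_cancel hab

/-- If `A / B₀` is not cyclic, it contains a `q × q`. -/
theorem exists_pair_of_not_cyclic_mod {A B₀ : Subgroup G} [IsMulCommutative A] [Finite G]
    (hB : B₀ ≤ A) (h : ¬ ∃ a ∈ A, B₀ ⊔ zpowers a = A) :
    ∃ q : ℕ, q.Prime ∧ q ∣ Nat.card A ∧ ∃ e ∈ A, ∃ f ∈ A,
      e ^ q ∈ B₀ ∧ f ^ q ∈ B₀ ∧ f ∉ B₀ ∧ ∀ t : ℕ, e * f ^ t ∉ B₀ := by
  classical
  letI : CommGroup A := { mul_comm := IsMulCommutative.is_comm.comm }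
  set N := B₀.subgroupOf A with hN
  by_contra hcon
  apply h
  have hcyc : IsCyclic (A ⧸ N) := by
    apply isCyclic_of_card_prime_pow_eq_one_le
    intro q hq
    by_contra hgt
    apply hcon
    haveI := Fact.mk hq
    let K : Subgroup (A ⧸ N) := (powMonoidHom q).ker
    have hK : q < Nat.card K := lt_of_not_ge hgt
    have hKne : K ≠ ⊥ := by
      intro h0; rw [h0, card_bot] at hK; exact absurd hK (by have := hq.one_lt; omega)
    obtain ⟨f₁, hf₁, hf₁ne⟩ := K.bot_or_exists_ne_one.resolve_left hKne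
    have hordf : orderOf f₁ = q :=
      (orderOf_eq_prime (show f₁ ^ q = 1 from hf₁) hf₁ne)
    obtain ⟨e₁, he₁, hne₁⟩ : ∃ e₁ ∈ K, e₁ ∉ zpowers f₁ := by
      by_contra hall
      simp only [not_exists, not_and, not_not] at hall
      have := card_le_of_le (show K ≤ zpowers f₁ from hall)
      rw [Nat.card_zpowers, hordf] at this
      omega
    refine ⟨q, hq, ?_, ?_⟩
    · rw [← hordf]
      exact ((orderOf_dvd_natCard f₁).trans (card_quotient_dvd_card N))
    obtain ⟨⟨e, heA⟩, rfl⟩ := QuotientGroup.mk'_surjective N e₁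
    obtain ⟨⟨f, hfA⟩, rfl⟩ := QuotientGroup.mk'_surjective N f₁
    have hmk : ∀ (x : G) (hx : x ∈ A), QuotientGroup.mk' N ⟨x, hx⟩ = 1 ↔ x ∈ B₀ := fun x hx =>
      QuotientGroup.eq_one_iff _
    refine ⟨e, heA, f, hfA, ?_, ?_, ?_, ?_⟩
    · rw [← hmk _ (pow_mem heA q)]
      exact ((map_pow (QuotientGroup.mk' N) ⟨e, heA⟩ q)).trans
        (show QuotientGroup.mk' N ⟨e, heA⟩ ^ q = 1 from he₁)
    · rw [← hmk _ (pow_mem hfA q)]
      exact ((map_pow (QuotientGroup.mk' N) ⟨f, hfA⟩ q)).trans
        (show QuotientGroup.mk' N ⟨f, hfA⟩ ^ q = 1 from hf₁)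
    · rw [← hmk _ hfA]; exact hf₁ne
    · intro t ht
      rw [← hmk _ (mul_mem heA (pow_mem hfA t))] at ht
      apply hne₁
      have h1 : QuotientGroup.mk' N ⟨e, heA⟩ * QuotientGroup.mk' N ⟨f, hfA⟩ ^ t = 1 := by
        rw [← map_pow, ← map_mul]; exact ht
      rw [mul_eq_one_iff_eq_inv] at h1
      rw [h1]
      exact inv_mem (pow_mem (mem_zpowers _) t)
  obtain ⟨g, hg⟩ := hcyc.exists_generator
  obtain ⟨⟨a, ha⟩, rfl⟩ := QuotientGroup.mk'_surjective N g
  refine ⟨a, ha, le_antisymm (sup_le hB (zpowers_le.mpr ha)) fun x hx => ?_⟩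
  obtain ⟨k, hk⟩ := hg (QuotientGroup.mk' N ⟨x, hx⟩)
  simp only at hk
  rw [← map_zpow, QuotientGroup.mk'_apply, QuotientGroup.mk'_apply, QuotientGroup.eq] at hk
  have hk' : (a ^ k)⁻¹ * x ∈ B₀ := hk
  have e : x = a ^ k * ((a ^ k)⁻¹ * x) := by group
  rw [e]
  exact mul_mem (mem_sup_right (zpow_mem (mem_zpowers a) k)) (mem_sup_left hk')

/-- Abelian coprime action: `K` is generated by the `C_K(B)` with `A / B` cyclic. -/
theorem iSup_centralizer_cyclic_quotient_eq [Finite G] {A K : Subgroup G} [IsMulCommutative A]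
    (hAK : A ≤ normalizer (K : Set G)) (hcop : (Nat.card A).Coprime (Nat.card K)) :
    (⨆ B ∈ {B : Subgroup G | B ≤ A ∧ ∃ a ∈ A, B ⊔ zpowers a = A},
      K ⊓ centralizer (B : Set G)) = K := by
  set S := ⨆ B ∈ {B : Subgroup G | B ≤ A ∧ ∃ a ∈ A, B ⊔ zpowers a = A},
    K ⊓ centralizer (B : Set G) with hS
  refine le_antisymm (iSup₂_le fun _ _ => inf_le_left) ?_
  suffices ∀ (n : ℕ) (K₁ : Subgroup G), (A ⊓ centralizer (K₁ : Set G)).relIndex A = n →
      K₁ ≤ K → A ≤ normalizer (K₁ : Set G) → K₁ ≤ S from this _ K rfl le_rfl hAK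
  intro n
  induction n using Nat.strong_induction_on with
  | _ n IH =>
    intro K₁ hn hK₁ hAK₁
    set B₀ := A ⊓ centralizer (K₁ : Set G) with hB₀
    have hdvd := card_dvd_of_le hK₁
    by_cases hcyc : ∃ a ∈ A, B₀ ⊔ zpowers a = A
    · refine le_trans ?_ (le_iSup₂_of_le B₀ ⟨inf_le_left, hcyc⟩ le_rfl)
      exact le_inf hK₁ (le_centralizer_iff.mp inf_le_right)
    obtain ⟨q, hq, hqA, e, he, f, hf, heq, hfq, hfB, hetB⟩ :=
      exists_pair_of_not_cyclic_mod inf_le_left hcyc
    haveI := Fact.mk hq
    have hEA : closure ({e, f} : Set G) ≤ A := by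
      rw [closure_le]; exact Set.insert_subset he (Set.singleton_subset_iff.mpr hf)
    have hef : Commute e f :=
      congrArg Subtype.val (IsMulCommutative.is_comm.comm (⟨e, he⟩ : A) ⟨f, hf⟩)
    refine le_trans (le_lineCentralizers hef (hAK₁ he) (hAK₁ hf) (mem_inf.mp heq).2
      (mem_inf.mp hfq).2
      ((hcop.coprime_dvd_left (card_dvd_of_le hEA)).coprime_dvd_right hdvd)
      ((hcop.coprime_dvd_left hqA).coprime_dvd_right hdvd)) ?_
    have key : ∀ g ∈ A, g ∉ B₀ → K₁ ⊓ centralizer {g} ≤ S := by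
      intro g hg hgB
      have hAg : A ≤ normalizer ((K₁ ⊓ centralizer {g} : Subgroup G) : Set G) := by
        refine le_normalizer_inf hAK₁ (le_trans ?_ le_normalizer)
        intro a ha
        rw [mem_centralizer_iff]
        intro y hy
        obtain rfl : y = g := hy
        exact congrArg Subtype.val (IsMulCommutative.is_comm.comm (⟨y, hg⟩ : A) ⟨a, ha⟩)
      refine IH _ ?_ _ rfl (inf_le_left.trans hK₁) hAg
      rw [← hn]
      set B₁ := A ⊓ centralizer ((K₁ ⊓ centralizer {g} : Subgroup G) : Set G) with hB₁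
      have hle : B₀ ≤ B₁ := inf_le_inf_left _ (centralizer_le inf_le_left)
      have hne : B₀ ≠ B₁ := fun h => hgB (h ▸ mem_inf.mpr ⟨hg, mem_centralizer_iff.mpr
        fun y hy => (mem_centralizer_iff.mp (mem_inf.mp hy).2 g rfl).symm⟩)
      rw [← relIndex_mul_relIndex B₀ B₁ A hle inf_le_left]
      have h1 : 0 < B₁.relIndex A := Nat.pos_of_ne_zero index_ne_zero_of_finite
      refine lt_mul_of_one_lt_left h1 ?_
      have h2 : B₀.relIndex B₁ ≠ 1 := fun h => hne (le_antisymm hle (relIndex_eq_one.mp h))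
      have h3 : B₀.relIndex B₁ ≠ 0 := index_ne_zero_of_finite
      omega
    exact sup_le (key f hf hfB)
      (iSup_le fun t => key _ (mul_mem he (pow_mem hf _)) (hetB t.val))

/-- Noncyclic abelian coprime action: `K = ⟨C_K(a) : a ≠ 1⟩`. -/
theorem iSup_centralizer_eq [Finite G] {A K : Subgroup G} [IsMulCommutative A]
    (hA : ¬ IsCyclic A) (hAK : A ≤ normalizer (K : Set G))
    (hcop : (Nat.card A).Coprime (Nat.card K)) :
    (⨆ a ∈ {a : G | a ∈ A ∧ a ≠ 1}, K ⊓ centralizer {a}) = K := by
  refine le_antisymm (iSup₂_le fun _ _ => inf_le_left) ?_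
  conv_lhs => rw [← iSup_centralizer_cyclic_quotient_eq hAK hcop]
  refine iSup₂_le fun B hB => ?_
  obtain ⟨hBA, a, ha, hBa⟩ := hB
  have hBne : B ≠ ⊥ := fun h => hA (by rw [h, bot_sup_eq] at hBa; rw [← hBa]; infer_instance)
  obtain ⟨b, hb, hb1⟩ := B.bot_or_exists_ne_one.resolve_left hBne
  refine le_iSup₂_of_le b ⟨hBA hb, hb1⟩ (inf_le_inf_left _ ?_)
  exact centralizer_le (Set.singleton_subset_iff.mpr hb)

end Cfsg.Agent.Lib.Coprime
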