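import Cfsg.Agent.Lib.Coprime.Generation

/-!
Coprime action for `MulDistribMulAction A G`, transferred through the semidirect product.
-/

namespace Cfsg.Agent.Lib.Coprime.Action

open Subgroup SemidirectProduct
open scoped Pointwise commutatorElement

set_option linter.style.haveILetI false
set_option maxHeartbeats 400000

variable (A G : Type*) [Group A] [Group G] [MulDistribMulAction A G]

/-- The semidirect product `G ⋊ A` of an action by automorphisms. -/
abbrev Semi := G ⋊[MulDistribMulAction.toMulAut A G] A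

/-- The image of `G` in `G ⋊ A`. -/
abbrev embG : G →* Semi A G := SemidirectProduct.inl

/-- The image of `A` in `G ⋊ A`. -/
abbrev actA : Subgroup (Semi A G) := (inr : A →* Semi A G).range

/-- `G` as a subgroup of `G ⋊ A`. -/
abbrev grpG : Subgroup (Semi A G) := (inl : G →* Semi A G).range

variable {A G}

theorem finite_semi [Finite A] [Finite G] : Finite (Semi A G) :=
  Finite.of_equiv _ (equivProd (φ := MulDistribMulAction.toMulAut A G)).symm

theorem inl_smul (a : A) (g : G) :
    embG A G (a • g) = inr a * embG A G g * (inr a)⁻¹ := by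
  rw [← map_inv]; exact inl_aut a g

theorem card_actA : Nat.card (actA A G) = Nat.card A :=
  (Nat.card_congr (MonoidHom.ofInjective inr_injective).toEquiv).symm

theorem card_grpG : Nat.card (grpG A G) = Nat.card G :=
  (Nat.card_congr (MonoidHom.ofInjective inl_injective).toEquiv).symm

theorem card_map_embG (N : Subgroup G) : Nat.card (N.map (embG A G)) = Nat.card N :=
  (Nat.card_congr (N.equivMapOfInjective _ inl_injective).toEquiv).symm

/-- `A` normalises the image of `N` exactly when `N` is invariant. -/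
theorem actA_le_normalizer_iff {N : Subgroup G} :
    actA A G ≤ normalizer ((N.map (embG A G) : Subgroup (Semi A G)) : Set (Semi A G)) ↔
      ∀ (a : A), ∀ x ∈ N, a • x ∈ N := by
  rw [le_normalizer_iff]
  constructor
  · intro h a x hx
    have := h (inr a) ⟨a, rfl⟩ _ (mem_map_of_mem (embG A G) hx)
    rw [← inl_smul] at this
    exact (mem_map_iff_mem inl_injective).mp this
  · rintro h _ ⟨a, rfl⟩ _ ⟨x, hx, rfl⟩
    rw [← inl_smul]
    exact mem_map_of_mem _ (h a x hx)

theorem actA_le_normalizer_grpG :
    actA A G ≤ normalizer ((grpG A G : Subgroup (Semi A G)) : Set (Semi A G)) := by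
  rw [show grpG A G = (⊤ : Subgroup G).map (embG A G) from MonoidHom.range_eq_map _,
    actA_le_normalizer_iff]
  intros; trivial

theorem inl_mem_centralizer_iff {g : G} :
    embG A G g ∈ centralizer ((actA A G : Subgroup (Semi A G)) : Set (Semi A G)) ↔
      ∀ a : A, a • g = g := by
  rw [mem_centralizer_iff]
  constructor
  · intro h a
    apply inl_injective (φ := MulDistribMulAction.toMulAut A G)
    show embG A G (a • g) = embG A G g
    rw [inl_smul, h (inr a) ⟨a, rfl⟩]; group
  · rintro h _ ⟨a, rfl⟩
    have := inl_smul a g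
    rw [h a] at this
    rw [eq_mul_inv_iff_mul_eq] at this
    exact this.symm

theorem solvable_or {N : Subgroup G} (h : Group.IsSolvable A ∨ Group.IsSolvable N) :
    Group.IsSolvable (actA A G) ∨ Group.IsSolvable (N.map (embG A G)) := by
  rcases h with h | h
  · exact Or.inl (Group.isSolvable_of_surjective (f := (inr : A →* Semi A G).rangeRestrict)
      (MonoidHom.rangeRestrict_surjective _))
  · exact Or.inr (isSolvable_map _ _)

theorem solvable_or_grpG (h : Group.IsSolvable A ∨ Group.IsSolvable G) :
    Group.IsSolvable (actA A G) ∨ Group.IsSolvable (grpG A G) := by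
  rcases h with h | h
  · exact Or.inl (Group.isSolvable_of_surjective (f := (inr : A →* Semi A G).rangeRestrict)
      (MonoidHom.rangeRestrict_surjective _))
  · exact Or.inr (Group.isSolvable_of_surjective (f := (inl : G →* Semi A G).rangeRestrict)
      (MonoidHom.rangeRestrict_surjective _))

/-- Fixed points of a quotient lift: the coset form. -/
theorem exists_mul_fixed [Finite A] [Finite G] {N : Subgroup G}
    (hN : ∀ (a : A), ∀ x ∈ N, a • x ∈ N) (hcop : (Nat.card A).Coprime (Nat.card N))
    (hsolv : Group.IsSolvable A ∨ Group.IsSolvable N) {g : G} (hg : ∀ a : A, g⁻¹ * a • g ∈ N) :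
    ∃ n ∈ N, ∀ a : A, a • (g * n) = g * n := by
  haveI := finite_semi (A := A) (G := G)
  obtain ⟨_, ⟨n, hn, rfl⟩, h⟩ := Coprime.exists_mul_fixed (actA_le_normalizer_iff.mpr hN)
    (by rw [card_actA, card_map_embG]; exact hcop) (solvable_or hsolv) (k := embG A G g)
    (by
      rintro _ ⟨a, rfl⟩
      rw [← inl_smul, ← map_inv, ← map_mul]
      exact mem_map_of_mem _ (hg a))
  rw [← map_mul] at h
  exact ⟨n, hn, inl_mem_centralizer_iff.mp h⟩

/-- An action trivial on an invariant `N` and on `G / N` is trivial, for coprime orders. -/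
theorem smul_eq_of_series [Finite A] [Finite G] {N : Subgroup G}
    (hcop : (Nat.card A).Coprime (Nat.card N)) (htriv : ∀ (a : A), ∀ x ∈ N, a • x = x)
    (hquot : ∀ (a : A) (g : G), g⁻¹ * a • g ∈ N) (a : A) (g : G) : a • g = g := by
  obtain ⟨n, hn, h⟩ := exists_mul_fixed (A := zpowers a) (N := N) (g := g)
    (fun b x hx => (htriv b x hx).symm ▸ hx)
    (hcop.coprime_dvd_left (card_subgroup_dvd_card _))
    (Or.inl (isSolvable_zpowers a)) (fun b => hquot b g)
  have h1 : a • (g * n) = g * n := h ⟨a, mem_zpowers a⟩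
  rw [smul_mul', htriv a n hn] at h1
  exact mul_right_cancel h1

/-- An invariant Sylow subgroup exists. -/
theorem exists_invariant_sylow [Finite A] [Finite G] (hcop : (Nat.card A).Coprime (Nat.card G))
    (hsolv : Group.IsSolvable A ∨ Group.IsSolvable G) (p : ℕ) [Fact p.Prime] :
    ∃ P : Sylow p G, ∀ (a : A), ∀ x ∈ (P : Subgroup G), a • x ∈ (P : Subgroup G) := by
  haveI := finite_semi (A := A) (G := G)
  obtain ⟨P, hP⟩ := Coprime.exists_invariant_sylow (actA_le_normalizer_grpG (A := A) (G := G))
    (by rw [card_actA, card_grpG]; exact hcop) (solvable_or_grpG hsolv) p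
  set Q := ((P : Subgroup (grpG A G)).map (grpG A G).subtype).comap (embG A G) with hQdef
  have hmap : Q.map (embG A G) = (P : Subgroup (grpG A G)).map (grpG A G).subtype :=
    map_comap_eq_self (map_subtype_le _)
  have hcard : Nat.card Q = p ^ (Nat.card G).factorization p := by
    rw [← card_map_embG (A := A) Q, hmap, card_sylow_map, card_grpG]
  refine ⟨Sylow.ofCard Q hcard, ?_⟩
  rw [Sylow.coe_ofCard]
  rw [← hmap] at hP
  exact actA_le_normalizer_iff.mp hP

/-- Invariant Sylow subgroups are conjugate by fixed elements. -/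
theorem exists_conj_invariant_sylow [Finite A] [Finite G]
    (hcop : (Nat.card A).Coprime (Nat.card G))
    (hsolv : Group.IsSolvable A ∨ Group.IsSolvable G) {p : ℕ} [Fact p.Prime] (P Q : Sylow p G)
    (hP : ∀ (a : A), ∀ x ∈ (P : Subgroup G), a • x ∈ (P : Subgroup G))
    (hQ : ∀ (a : A), ∀ x ∈ (Q : Subgroup G), a • x ∈ (Q : Subgroup G)) :
    ∃ c : G, (∀ a : A, a • c = c) ∧ MulAut.conj c • (P : Subgroup G) = (Q : Subgroup G) := by
  haveI := finite_semi (A := A) (G := G)
  have key : ∀ R : Sylow p G, ∃ R' : Sylow p (grpG A G),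
      (R' : Subgroup (grpG A G)).map (grpG A G).subtype = (R : Subgroup G).map (embG A G) :=
    fun R => exists_sylow_of_card (map_le_range (embG A G) _)
      (by rw [card_map_embG, card_grpG]; exact R.card_eq_multiplicity)
  obtain ⟨P', hP'⟩ := key P
  obtain ⟨Q', hQ'⟩ := key Q
  obtain ⟨_, hc, h⟩ := Coprime.exists_conj_invariant_sylow
    (actA_le_normalizer_grpG (A := A) (G := G))
    (by rw [card_actA, card_grpG]; exact hcop) (solvable_or_grpG hsolv) P' Q'
    (hP'.symm ▸ actA_le_normalizer_iff.mpr hP) (hQ'.symm ▸ actA_le_normalizer_iff.mpr hQ)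
  obtain ⟨⟨c, rfl⟩, hcc⟩ := mem_inf.mp hc
  refine ⟨c, inl_mem_centralizer_iff.mp hcc, map_injective (inl_injective
    (φ := MulDistribMulAction.toMulAut A G)) ?_⟩
  rw [map_conj_smul]
  rw [hP', hQ'] at h
  exact h

/-- `G = [G, A] C_G(A)`, elementwise. -/
theorem exists_mul_fixed_commutator [Finite A] [Finite G]
    (hcop : (Nat.card A).Coprime (Nat.card G))
    (hsolv : Group.IsSolvable A ∨ Group.IsSolvable G) (g : G) :
    ∃ n ∈ closure {y : G | ∃ (a : A) (x : G), y = x⁻¹ * a • x}, ∀ a : A,
      a • (g * n) = g * n := by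
  refine exists_mul_fixed ?_ (hcop.coprime_dvd_right (card_subgroup_dvd_card _))
    (hsolv.imp id fun (h : Group.IsSolvable G) => inferInstance)
    (fun a => subset_closure ⟨a, g, rfl⟩)
  intro b y hy
  induction hy using closure_induction with
  | mem z hz =>
    obtain ⟨a, x, rfl⟩ := hz
    refine subset_closure ⟨b * a * b⁻¹, b • x, ?_⟩
    rw [smul_mul', smul_inv', mul_smul, mul_smul, inv_smul_smul]
  | one => rw [smul_one]; exact one_mem _
  | mul _ _ _ _ h1 h2 => rw [smul_mul']; exact mul_mem h1 h2
  | inv _ _ h1 => rw [smul_inv']; exact inv_mem h1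

/-- Generation by fixed points of nonidentity elements, noncyclic abelian `A`. -/
theorem closure_fixed_eq_top [Finite A] [Finite G] (hA : ∀ a b : A, a * b = b * a)
    (hnc : ¬ IsCyclic A) (hcop : (Nat.card A).Coprime (Nat.card G)) :
    closure {g : G | ∃ a : A, a ≠ 1 ∧ a • g = g} = ⊤ := by
  haveI := finite_semi (A := A) (G := G)
  haveI : IsMulCommutative (actA A G) := ⟨⟨fun x y => Subtype.ext (by
    obtain ⟨a, ha⟩ := x.2
    obtain ⟨b, hb⟩ := y.2
    show (x : Semi A G) * y = y * x
    rw [← ha, ← hb, ← map_mul, ← map_mul, hA])⟩⟩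
  have hnc' : ¬ IsCyclic (actA A G) := fun h =>
    haveI := h
    hnc (isCyclic_of_surjective
      (MonoidHom.ofInjective (f := (inr : A →* Semi A G)) inr_injective).symm.toMonoidHom
      (MulEquiv.surjective _))
  have := iSup_centralizer_eq hnc' (actA_le_normalizer_grpG (A := A) (G := G))
    (by rw [card_actA, card_grpG]; exact hcop)
  set S := closure {g : G | ∃ a : A, a ≠ 1 ∧ a • g = g} with hS
  have hle : grpG A G ≤ S.map (embG A G) := by
    rw [← this]
    refine iSup₂_le ?_
    rintro _ ⟨⟨a, rfl⟩, ha⟩ x hx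
    obtain ⟨⟨g, rfl⟩, hg⟩ := mem_inf.mp hx
    refine mem_map_of_mem _ (subset_closure ⟨a, fun h => ha (by rw [h, map_one]), ?_⟩)
    have h1 := mem_centralizer_iff.mp hg (inr a) rfl
    apply inl_injective (φ := MulDistribMulAction.toMulAut A G)
    show embG A G (a • g) = embG A G g
    rw [inl_smul, h1]; group
  rw [eq_top_iff]
  intro g _
  exact (mem_map_iff_mem inl_injective).mp (hle ⟨g, rfl⟩)

end Cfsg.Agent.Lib.Coprime.Action
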