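import Mathlib

/-!
Schur-Zassenhaus conjugacy, stated inside an ambient group: if `A` normalises `K`, the orders are
coprime, `A` or `K` is solvable, and `B ≤ A ⊔ K` has the order of `A`, then `B` is a `K`-conjugate
of `A`.
-/

namespace Cfsg.Agent.Lib.Coprime

open Subgroup MulAction
open scoped Pointwise

set_option linter.style.haveILetI false
set_option maxHeartbeats 400000

universe u

variable {G : Type u} [Group G]

/-- conjugation of a subgroup, written as a map -/
theorem conj_smul_eq_map (g : G) (H : Subgroup G) :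
    MulAut.conj g • H = H.map (MulAut.conj g).toMonoidHom := rfl

theorem mem_conj_smul {g x : G} {H : Subgroup G} :
    x ∈ MulAut.conj g • H ↔ g⁻¹ * x * g ∈ H := by
  rw [Subgroup.mem_pointwise_smul_iff_inv_smul_mem]
  simp [MulAut.smul_def]

theorem card_conj_smul (g : G) (H : Subgroup G) :
    Nat.card (MulAut.conj g • H : Subgroup G) = Nat.card H :=
  Nat.card_congr ((H.equivMapOfInjective _ (MulAut.conj g).injective).toEquiv).symm

theorem conj_smul_mul (g h : G) (H : Subgroup G) :
    MulAut.conj (g * h) • H = MulAut.conj g • MulAut.conj h • H := by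
  rw [map_mul, mul_smul]

theorem map_conj_smul {G' : Type*} [Group G'] (f : G →* G') (g : G) (H : Subgroup G) :
    (MulAut.conj g • H).map f = MulAut.conj (f g) • H.map f := by
  rw [conj_smul_eq_map, conj_smul_eq_map, Subgroup.map_map, Subgroup.map_map]
  congr 1
  ext x
  simp

theorem conj_smul_eq_self_of_mem_normalizer {g : G} {H : Subgroup G}
    (hg : g ∈ normalizer (H : Set G)) : MulAut.conj g • H = H := by
  ext x
  rw [mem_conj_smul]
  have := (mem_normalizer_iff.mp (inv_mem hg)) x
  rw [inv_inv] at this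
  exact this.symm

theorem mem_normalizer_of_conj_smul_eq {g : G} {H : Subgroup G}
    (hg : MulAut.conj g • H = H) : g ∈ normalizer (H : Set G) := by
  rw [mem_normalizer_iff]
  intro x
  have : g * x * g⁻¹ ∈ MulAut.conj g • H ↔ x ∈ H := by
    rw [mem_conj_smul]; simp [mul_assoc]
  rw [hg] at this
  exact this.symm

/-- elements of `A ⊔ K` when `A` normalises `K` -/
theorem exists_mul_of_mem_sup {A K : Subgroup G} (hAK : A ≤ normalizer (K : Set G)) {x : G}
    (hx : x ∈ A ⊔ K) : ∃ a ∈ A, ∃ k ∈ K, x = a * k := by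
  have h : x ∈ (A : Set G) * K := by
    rw [← coe_mul_of_left_le_normalizer_right A K hAK]; exact hx
  obtain ⟨a, ha, k, hk, rfl⟩ := h
  exact ⟨a, ha, k, hk, rfl⟩

theorem inf_eq_bot_of_coprime {A K : Subgroup G} (hcop : (Nat.card A).Coprime (Nat.card K)) :
    A ⊓ K = ⊥ := disjoint_iff.mp (disjoint_of_coprime_natCard hcop)

theorem card_sup_of_disjoint {A K : Subgroup G} (hAK : A ≤ normalizer (K : Set G))
    (hd : Disjoint A K) : Nat.card ↥(A ⊔ K) = Nat.card A * Nat.card K := by
  classical
  have hinj : Function.Injective (fun p : A × K => (p.1 : G) * p.2) :=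
    mul_injective_of_disjoint hd
  have e : ↥(A ⊔ K) ≃ A × K := by
    refine (Equiv.ofBijective (fun p : A × K => (⟨(p.1 : G) * p.2,
      mul_mem (mem_sup_left p.1.2) (mem_sup_right p.2.2)⟩ : ↥(A ⊔ K))) ⟨?_, ?_⟩).symm
    · intro p q h; exact hinj (congrArg Subtype.val h)
    · rintro ⟨x, hx⟩
      obtain ⟨a, ha, k, hk, rfl⟩ := exists_mul_of_mem_sup hAK hx
      exact ⟨(⟨a, ha⟩, ⟨k, hk⟩), rfl⟩
  rw [Nat.card_congr e, Nat.card_prod]

/-- The point of `QuotientDiff` given by a complement. -/
def transversalPoint (K M : Subgroup G) [K.Normal] [IsMulCommutative K] [K.FiniteIndex]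
    (hM : IsComplement' K M) : K.QuotientDiff :=
  Quotient.mk'' (⟨(M : Set G), hM.symm⟩ : K.LeftTransversal)

/-- The abelian case of conjugacy of complements, from Mathlib's transfer argument. -/
theorem complement_conj_of_commutative [Finite G] (K H L : Subgroup G) [K.Normal]
    [IsMulCommutative K] (hcop : (Nat.card K).Coprime K.index)
    (hH : IsComplement' K H) (hL : IsComplement' K L) :
    ∃ k ∈ K, MulAut.conj k • H = L := by
  have key : ∀ (M : Subgroup G) (hM : IsComplement' K M),
      MulAction.stabilizer G (transversalPoint K M hM) = M := by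
    intro M hM
    set T : K.LeftTransversal := ⟨(M : Set G), hM.symm⟩ with hT
    have hle : M ≤ MulAction.stabilizer G (transversalPoint K M hM) := by
      intro m hm
      have : MulOpposite.op m⁻¹ • T = T := by
        apply Subtype.ext
        exact op_smul_coe_set (inv_mem hm)
      exact congrArg Quotient.mk'' this
    refine (eq_of_le_of_card_ge hle ?_).symm
    have h1 := (isComplement'_stabilizer_of_coprime (α := transversalPoint K M hM) hcop).card_mul_card
    have h2 := hM.card_mul_card
    have := Nat.eq_of_mul_eq_mul_left (Nat.card_pos (α := K)) (h1.trans h2.symm)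
    omega
  obtain ⟨⟨k, hk⟩, hkq⟩ := exists_smul_eq hcop
    (transversalPoint K H hH) (transversalPoint K L hL)
  refine ⟨k, hk, ?_⟩
  have h := MulAction.stabilizer_smul_eq_stabilizer_map_conj k
    (transversalPoint K H hH)
  rw [key H hH] at h
  rw [conj_smul_eq_map, ← h, show k • _ = _ from hkq, key L hL]

/-- A nontrivial finite solvable group has a nontrivial normal `p`-subgroup. -/
theorem exists_normal_pSubgroup {A : Subgroup G} [Finite G] [Group.IsSolvable A] (hA : A ≠ ⊥) :
    ∃ (p : ℕ) (M : Subgroup G), p.Prime ∧ M ≠ ⊥ ∧ M ≤ A ∧ A ≤ normalizer (M : Set G) ∧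
      IsPGroup p M := by
  haveI : Nontrivial A := (Subgroup.nontrivial_iff_ne_bot A).mpr hA
  obtain ⟨n, hn⟩ := (Group.isSolvable_def A).mp inferInstance
  classical
  have hex : ∃ m, derivedSeries A m = ⊥ := ⟨n, hn⟩
  have h0 : Nat.find hex ≠ 0 := by
    intro h
    have := Nat.find_spec hex
    rw [h, derivedSeries_zero] at this
    exact top_ne_bot this
  obtain ⟨m, hm⟩ := Nat.exists_eq_succ_of_ne_zero h0
  set C := derivedSeries A m with hC
  have hC1 : C ≠ ⊥ := Nat.find_min hex (by omega)
  have hC2 : ⁅C, C⁆ = ⊥ := by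
    have := Nat.find_spec hex
    rwa [hm, derivedSeries_succ] at this
  have hCab : IsMulCommutative C := by
    rw [← le_centralizer_iff_isMulCommutative, ← commutator_eq_bot_iff_le_centralizer]
    exact hC2
  have hcard : 1 < Nat.card C := (one_lt_card_iff_ne_bot C).mpr hC1
  set p := (Nat.card C).minFac
  have hp : p.Prime := Nat.minFac_prime (by omega)
  haveI : Fact p.Prime := ⟨hp⟩
  let P : Sylow p C := default
  haveI : (P : Subgroup C).Normal := by
    constructor
    intro x hx g
    have : g * x = x * g := hCab.is_comm.comm g x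
    rw [this, mul_inv_cancel_right]
    exact hx
  haveI : (P : Subgroup C).Characteristic := P.characteristic_of_normal inferInstance
  haveI : C.Normal := derivedSeries_normal A m
  haveI hPn : ((P : Subgroup C).map C.subtype).Normal := inferInstance
  refine ⟨p, ((P : Subgroup C).map C.subtype).map A.subtype, hp, ?_, map_subtype_le _, ?_, ?_⟩
  · rw [Ne, map_eq_bot_iff_of_injective _ A.subtype_injective,
      map_eq_bot_iff_of_injective _ C.subtype_injective]
    exact P.ne_bot_of_dvd_card (Nat.minFac_dvd _)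
  · intro a ha
    rw [mem_normalizer_iff]
    intro x
    constructor
    · rintro ⟨y, hy, rfl⟩
      exact ⟨⟨a, ha⟩ * y * ⟨a, ha⟩⁻¹, hPn.conj_mem y hy _, rfl⟩
    · rintro ⟨y, hy, hxy⟩
      have hy' := hPn.conj_mem y hy ⟨a, ha⟩⁻¹
      rw [inv_inv] at hy'
      refine ⟨⟨a, ha⟩⁻¹ * y * ⟨a, ha⟩, hy', ?_⟩
      simp only [coe_subtype] at hxy ⊢
      simp [Subgroup.coe_mul, hxy, mul_assoc]
  · exact (P.2.map _).map _

/-- The induction predicate. -/
def ConjProp (n : ℕ) : Prop :=
  ∀ (G : Type u) [Group G] [Finite G] (A B K : Subgroup G), A ≤ normalizer (K : Set G) →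
    (Nat.card A).Coprime (Nat.card K) → (Group.IsSolvable A ∨ Group.IsSolvable K) →
    B ≤ A ⊔ K → Nat.card B = Nat.card A → Nat.card A * Nat.card K = n →
    ∃ k ∈ K, MulAut.conj k • A = B

theorem isSolvable_conj_smul {A : Subgroup G} (g : G) [Group.IsSolvable A] :
    Group.IsSolvable ↥(MulAut.conj g • A) :=
  Group.isSolvable_of_surjective (f := (A.equivMapOfInjective _ (MulAut.conj g).injective).toMonoidHom)
    (MulEquiv.surjective _)

theorem isSolvable_map {G' : Type*} [Group G'] (f : G →* G') (A : Subgroup G)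
    [Group.IsSolvable A] : Group.IsSolvable ↥(A.map f) :=
  Group.isSolvable_of_surjective (f := f.subgroupMap A) (f.subgroupMap_surjective A)

theorem isSolvable_of_le {A B : Subgroup G} (h : A ≤ B) [Group.IsSolvable B] :
    Group.IsSolvable A :=
  Group.isSolvable_of_isSolvable_injective (f := inclusion h) (inclusion_injective h)

theorem card_map_le [Finite G] {G' : Type*} [Group G'] (f : G →* G') (H : Subgroup G) :
    Nat.card (H.map f) ≤ Nat.card H :=
  Nat.le_of_dvd Nat.card_pos (Subgroup.card_map_dvd H f)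

/-- The part of a `B ≤ A ⊔ K` lying in a subgroup containing `B`, `A`: Dedekind. -/
theorem le_sup_inf {A B K N : Subgroup G} (hAK : A ≤ normalizer (K : Set G)) (hA : A ≤ N)
    (hB : B ≤ N) (h : B ≤ A ⊔ K) : B ≤ A ⊔ K ⊓ N := by
  intro b hb
  obtain ⟨a, ha, k, hk, rfl⟩ := exists_mul_of_mem_sup hAK (h hb)
  refine mul_mem (mem_sup_left ha) (mem_sup_right ⟨hk, ?_⟩)
  simpa using mul_mem (inv_mem (hA ha)) (hB hb)

theorem le_normalizer_inf {A K N : Subgroup G} (hK : A ≤ normalizer (K : Set G))
    (hN : A ≤ normalizer (N : Set G)) : A ≤ normalizer ((K ⊓ N : Subgroup G) : Set G) := by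
  intro a ha
  apply mem_normalizer_of_conj_smul_eq
  rw [Subgroup.smul_inf, conj_smul_eq_self_of_mem_normalizer (hK ha),
    conj_smul_eq_self_of_mem_normalizer (hN ha)]

theorem le_normalizer_sup {A K N : Subgroup G} (hK : A ≤ normalizer (K : Set G))
    (hN : A ≤ normalizer (N : Set G)) : A ≤ normalizer ((K ⊔ N : Subgroup G) : Set G) := by
  intro a ha
  apply mem_normalizer_of_conj_smul_eq
  rw [Subgroup.smul_sup, conj_smul_eq_self_of_mem_normalizer (hK ha),
    conj_smul_eq_self_of_mem_normalizer (hN ha)]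

/-- If `M ≤ A` is a `p`-subgroup normalised by `A`, after conjugating by an element of the normal
subgroup `K` it lies in a complement `B` and is normalised by it. -/
theorem align [Finite G] (A B K M : Subgroup G) [K.Normal] {p : ℕ} [Fact p.Prime]
    (hcop : (Nat.card A).Coprime (Nat.card K)) (htop : A ⊔ K = ⊤) (hBK : B ⊔ K = ⊤)
    (hcard : Nat.card B = Nat.card A) (hMA : M ≤ A) (hAM : A ≤ normalizer (M : Set G))
    (hpM : IsPGroup p M) (hM1 : M ≠ ⊥) :
    ∃ k ∈ K, MulAut.conj k • M ≤ B ∧ B ≤ normalizer ((MulAut.conj k • M : Subgroup G) : Set G) := by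
  have hMcop : (Nat.card M).Coprime (Nat.card K) := hcop.coprime_dvd_left (card_dvd_of_le hMA)
  have hN1 : (M ⊔ K).Normal := by
    rw [← normalizer_eq_top_iff, eq_top_iff, ← htop]
    exact sup_le (le_normalizer_sup hAM le_normalizer_of_normal)
      (le_sup_right.trans le_normalizer)
  have hN1card : Nat.card ↥(M ⊔ K) = Nat.card M * Nat.card K :=
    card_sup_of_disjoint le_normalizer_of_normal (disjoint_iff.mpr (inf_eq_bot_of_coprime hMcop))
  have hsup : B ⊓ (M ⊔ K) ⊔ K = M ⊔ K := by
    refine le_antisymm (sup_le inf_le_right le_sup_right) fun x hx => ?_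
    obtain ⟨b, hb, k, hk, rfl⟩ := exists_mul_of_mem_sup (A := B)
      (le_normalizer_of_normal (H := K)) (show x ∈ B ⊔ K by rw [hBK]; trivial)
    refine mul_mem (mem_sup_left ⟨hb, ?_⟩) (mem_sup_right hk)
    simpa using mul_mem hx (inv_mem (mem_sup_right (S := M) hk))
  have hMBcop : (Nat.card ↥(B ⊓ (M ⊔ K))).Coprime (Nat.card K) :=
    (hcard ▸ hcop).coprime_dvd_left (card_dvd_of_le inf_le_left)
  have hMBcard : Nat.card ↥(B ⊓ (M ⊔ K)) = Nat.card M := by
    have hn : B ⊓ (M ⊔ K) ≤ normalizer (K : Set G) := le_normalizer_of_normal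
    have := card_sup_of_disjoint hn (disjoint_iff.mpr (inf_eq_bot_of_coprime hMBcop))
    rw [hsup, hN1card] at this
    exact (Nat.eq_of_mul_eq_mul_right Nat.card_pos this).symm
  have hpK : ¬ p ∣ Nat.card K := by
    intro h
    obtain ⟨r, hr⟩ := IsPGroup.iff_card.mp hpM
    have hr0 : r ≠ 0 := by
      intro h0; rw [h0, pow_zero] at hr; exact hM1 (card_eq_one.mp hr)
    have : p ∣ Nat.card M := by rw [hr]; exact dvd_pow_self p hr0
    exact (Fact.out : p.Prime).ne_one (Nat.eq_one_of_dvd_coprimes hMcop this h)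
  have hsyl : ∀ S : Subgroup G, S ≤ M ⊔ K → Nat.card S = Nat.card M →
      ∃ P : Sylow p ↥(M ⊔ K), (P : Subgroup ↥(M ⊔ K)).map (M ⊔ K).subtype = S := by
    intro S hS hSc
    have hSp : IsPGroup p (S.subgroupOf (M ⊔ K)) := by
      obtain ⟨r, hr⟩ := IsPGroup.iff_card.mp hpM
      refine IsPGroup.of_card (n := r) ?_
      rw [Nat.card_congr (subgroupOfEquivOfLe hS).toEquiv, hSc, hr]
    have hSi : ¬ p ∣ (S.subgroupOf (M ⊔ K)).index := by
      have := (S.subgroupOf (M ⊔ K)).card_mul_index
      rw [Nat.card_congr (subgroupOfEquivOfLe hS).toEquiv, hN1card, hSc] at this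
      rw [Nat.eq_of_mul_eq_mul_left Nat.card_pos this]
      exact hpK
    exact ⟨hSp.toSylow hSi, by
      rw [IsPGroup.toSylow_coe, subgroupOf_map_subtype, inf_eq_left.mpr hS]⟩
  obtain ⟨P, hP⟩ := hsyl M le_sup_left rfl
  obtain ⟨Q, hQ⟩ := hsyl (B ⊓ (M ⊔ K)) inf_le_right hMBcard
  obtain ⟨⟨g, hg⟩, hgPQ⟩ := MulAction.exists_smul_eq ↥(M ⊔ K) P Q
  have hconj : MulAut.conj g • M = B ⊓ (M ⊔ K) := by
    rw [← hQ, ← hgPQ, Sylow.coe_subgroup_smul, map_conj_smul, coe_subtype, hP]
  obtain ⟨m, hm, k, hk, rfl⟩ := exists_mul_of_mem_sup (A := M)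
    (le_normalizer_of_normal (H := K)) hg
  have hk2 : MulAut.conj (m * k * m⁻¹) • M = B ⊓ (M ⊔ K) := by
    rw [conj_smul_mul, conj_smul_eq_self_of_mem_normalizer (hAM (inv_mem (hMA hm))), hconj]
  refine ⟨m * k * m⁻¹, (inferInstance : K.Normal).conj_mem k hk m, ?_, ?_⟩
  · rw [hk2]; exact inf_le_left
  · rw [hk2]
    exact le_normalizer_inf le_normalizer (haveI := hN1; le_normalizer_of_normal)

/-- The case of a common normal subgroup of both complements. -/
theorem common_normal_step [Finite G] (A B K M : Subgroup G) [K.Normal] [M.Normal]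
    [Group.IsSolvable A] (hM1 : M ≠ ⊥) (hMA : M ≤ A) (hMB : M ≤ B)
    (hcop : (Nat.card A).Coprime (Nat.card K)) (htop : A ⊔ K = ⊤)
    (hcard : Nat.card B = Nat.card A)
    (IH : ∀ m < Nat.card A * Nat.card K, ConjProp.{u} m) :
    ∃ k ∈ K, MulAut.conj k • A = B := by
  set f := QuotientGroup.mk' M with hf
  have hfs : Function.Surjective f := QuotientGroup.mk'_surjective M
  have hker : f.ker = M := QuotientGroup.ker_mk' M
  have hc : ∀ S : Subgroup G, M ≤ S → Nat.card (S.map f) * S.index = Nat.card (G ⧸ M) := by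
    intro S hS
    rw [← index_map_eq S hfs (by rw [hker]; exact hS)]
    exact card_mul_index _
  have hBi : B.index = A.index := by
    have h1 := A.card_mul_index
    have h2 := B.card_mul_index
    rw [hcard, ← h1] at h2
    exact Nat.eq_of_mul_eq_mul_left Nat.card_pos h2
  have hBmap : Nat.card (B.map f) = Nat.card (A.map f) := by
    have h1 := hc B hMB
    rw [hBi, ← hc A hMA] at h1
    exact Nat.eq_of_mul_eq_mul_right (Nat.pos_of_ne_zero index_ne_zero_of_finite) h1
  have hlt : Nat.card (A.map f) < Nat.card A := by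
    have h1 := hc A hMA
    have h2 := A.card_mul_index
    have h3 : Nat.card (G ⧸ M) < Nat.card G := by
      rw [← index_eq_card, ← M.card_mul_index]
      exact lt_mul_of_one_lt_left (Nat.pos_of_ne_zero index_ne_zero_of_finite)
        ((one_lt_card_iff_ne_bot M).mpr hM1)
    rw [← h1, ← h2] at h3
    exact Nat.lt_of_mul_lt_mul_right h3
  obtain ⟨k', hk', hconj⟩ := IH (Nat.card (A.map f) * Nat.card (K.map f))
    (Nat.mul_lt_mul_of_lt_of_le hlt (card_map_le f K) Nat.card_pos) (G ⧸ M)
    (A.map f) (B.map f) (K.map f)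
    (haveI : (K.map f).Normal := Normal.map inferInstance f hfs
     le_normalizer_of_normal)
    ((hcop.coprime_dvd_left (Subgroup.card_map_dvd A f)).coprime_dvd_right (Subgroup.card_map_dvd K f))
    (Or.inl (isSolvable_map f A))
    (by rw [← Subgroup.map_sup, htop, map_top_of_surjective f hfs]; exact le_top) hBmap rfl
  obtain ⟨k, hk, rfl⟩ := hk'
  refine ⟨k, hk, ?_⟩
  rw [← map_conj_smul] at hconj
  have h1 : M ≤ MulAut.conj k • A := by
    intro x hx
    rw [mem_conj_smul]
    have h := (inferInstance : M.Normal).conj_mem x hx k⁻¹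
    rw [inv_inv] at h
    exact hMA h
  have := congrArg (Subgroup.comap f) hconj
  rwa [comap_map_eq_self (by rw [hker]; exact h1),
    comap_map_eq_self (by rw [hker]; exact hMB)] at this

theorem conj_sup_eq_top {A K : Subgroup G} [K.Normal] (htop : A ⊔ K = ⊤) (k : G) :
    MulAut.conj k • A ⊔ K = ⊤ := by
  have h2 : MulAut.conj k • (A ⊔ K) = MulAut.conj k • A ⊔ K := by
    rw [Subgroup.smul_sup,
      conj_smul_eq_self_of_mem_normalizer (H := K) (normalizer_eq_top K ▸ mem_top k)]
  rw [← h2, htop, conj_smul_eq_map, map_top_of_surjective _ (MulAut.conj k).surjective]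

theorem solvable_left_step [Finite G] (A B K : Subgroup G) [K.Normal] [Group.IsSolvable A]
    (hcop : (Nat.card A).Coprime (Nat.card K)) (htop : A ⊔ K = ⊤) (hBK : B ⊔ K = ⊤)
    (hcard : Nat.card B = Nat.card A)
    (IH : ∀ m < Nat.card A * Nat.card K, ConjProp.{u} m) :
    ∃ k ∈ K, MulAut.conj k • A = B := by
  by_cases hA1 : A = ⊥
  · refine ⟨1, one_mem _, ?_⟩
    have hB : B = ⊥ := card_eq_one.mp (by rw [hcard, hA1, Subgroup.card_bot])
    simp [hA1, hB]
  obtain ⟨p, M, hp, hM1, hMA, hAM, hpM⟩ := exists_normal_pSubgroup hA1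
  have := Fact.mk hp
  obtain ⟨k, hk, hkB, hBN⟩ := align A B K M hcop htop hBK hcard hMA hAM hpM hM1
  set A1 := MulAut.conj k • A with hA1def
  set M1 := MulAut.conj k • M with hM1def
  have hA1s : Group.IsSolvable A1 := isSolvable_conj_smul _
  have hA1top : A1 ⊔ K = ⊤ := conj_sup_eq_top htop k
  have hA1card : Nat.card A1 = Nat.card A := card_conj_smul _ _
  have hM1A1 : M1 ≤ A1 := pointwise_smul_le_pointwise_smul_iff.mpr hMA
  have hA1N : A1 ≤ normalizer (M1 : Set G) := by
    intro x hx
    rw [hA1def, mem_conj_smul] at hx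
    apply mem_normalizer_of_conj_smul_eq
    rw [hM1def, ← conj_smul_mul, show x * k = k * (k⁻¹ * x * k) by group, conj_smul_mul,
      conj_smul_eq_self_of_mem_normalizer (hAM hx)]
  suffices h : ∃ k' ∈ K, MulAut.conj k' • A1 = B by
    obtain ⟨k', hk', h⟩ := h
    exact ⟨k' * k, mul_mem hk' hk, by rw [conj_smul_mul]; exact h⟩
  by_cases hNtop : normalizer (M1 : Set G) = ⊤
  · have : M1.Normal := normalizer_eq_top_iff.mp hNtop
    refine common_normal_step A1 B K M1 ?_ hM1A1 hkB (hA1card ▸ hcop) hA1top
      (by rw [hA1card, hcard]) (by rwa [hA1card])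
    intro h
    apply hM1
    apply card_eq_one.mp
    rw [← card_conj_smul k M, ← hM1def, h, card_bot]
  · set K2 := K ⊓ normalizer (M1 : Set G) with hK2
    have hK2lt : Nat.card K2 < Nat.card K := by
      refine lt_of_not_ge fun h => hNtop ?_
      have := eq_of_le_of_card_ge (H := K2) inf_le_left h
      rw [eq_top_iff, ← hA1top]
      exact sup_le hA1N (this ▸ inf_le_right)
    obtain ⟨k', hk', h⟩ := IH (Nat.card A * Nat.card K2)
      (Nat.mul_lt_mul_of_le_of_lt le_rfl hK2lt Nat.card_pos) G A1 B K2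
      (le_normalizer_inf le_normalizer_of_normal (hA1N.trans le_normalizer))
      (hA1card ▸ hcop.coprime_dvd_right (card_dvd_of_le inf_le_left)) (Or.inl hA1s)
      (le_sup_inf le_normalizer_of_normal hA1N hBN (by rw [hA1top]; exact le_top))
      (by rw [hA1card, hcard]) (by rw [hA1card])
    exact ⟨k', hk'.1, h⟩

theorem solvable_right_step [Finite G] (A B K : Subgroup G) [K.Normal] [Group.IsSolvable K]
    (hcop : (Nat.card A).Coprime (Nat.card K)) (htop : A ⊔ K = ⊤)
    (hA : IsComplement' K A) (hB : IsComplement' K B) (hcard : Nat.card B = Nat.card A)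
    (IH : ∀ m < Nat.card A * Nat.card K, ConjProp.{u} m) :
    ∃ k ∈ K, MulAut.conj k • A = B := by
  by_cases hD : ⁅K, K⁆ = ⊥
  · have : IsMulCommutative K := by
      rwa [← le_centralizer_iff_isMulCommutative, ← commutator_eq_bot_iff_le_centralizer]
    refine complement_conj_of_commutative K A B ?_ hA hB
    rw [hA.symm.index_eq_card]; exact hcop.symm
  set D := ⁅K, K⁆ with hDdef
  have hDK : D ≤ K := commutator_le_self K
  have hDlt : Nat.card D < Nat.card K := by
    refine lt_of_not_ge fun h => ?_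
    have heq : D = K := eq_of_le_of_card_ge hDK h
    obtain ⟨n, hn⟩ := (Group.isSolvable_def K).mp inferInstance
    have : ∀ m, (derivedSeries K m).map K.subtype = K := by
      intro m
      induction m with
      | zero => rw [derivedSeries_zero, ← MonoidHom.range_eq_map, range_subtype]
      | succ m ih => rw [derivedSeries_succ, map_commutator, ih]; exact heq
    have hh := this n
    rw [hn, Subgroup.map_bot] at hh
    exact hD (heq.trans hh.symm)
  set f := QuotientGroup.mk' D with hf
  have hfs : Function.Surjective f := QuotientGroup.mk'_surjective D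
  have hker : f.ker = D := QuotientGroup.ker_mk' D
  have hc : ∀ S : Subgroup G, (Nat.card S).Coprime (Nat.card D) →
      Nat.card (S.map f) = Nat.card S := by
    intro S hS
    have hinj : Function.Injective (f.subgroupMap S) := by
      rw [← MonoidHom.ker_eq_bot_iff, eq_bot_iff]
      rintro ⟨x, hx⟩ h
      have h' : x ∈ D := by
        rw [← hker]
        exact congrArg Subtype.val h
      have : x ∈ (⊥ : Subgroup G) := by
        rw [← inf_eq_bot_of_coprime hS]; exact ⟨hx, h'⟩
      exact Subtype.ext this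
    exact (Nat.card_congr
      (Equiv.ofBijective _ ⟨hinj, f.subgroupMap_surjective S⟩)).symm
  have hcopD : (Nat.card A).Coprime (Nat.card D) := hcop.coprime_dvd_right (card_dvd_of_le hDK)
  have hKlt : Nat.card (K.map f) < Nat.card K := by
    refine lt_of_not_ge fun h => hD ?_
    have hbij : Function.Bijective (f.subgroupMap K) :=
      (Nat.bijective_iff_surjective_and_card _).mpr
        ⟨f.subgroupMap_surjective K, le_antisymm h (card_map_le f K)⟩
    rw [eq_bot_iff]
    intro x hx
    have : (⟨x, hDK hx⟩ : K) = 1 := hbij.1 (Subtype.ext (by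
      simpa [hf] using (QuotientGroup.eq_one_iff x).mpr hx))
    exact congrArg Subtype.val this
  obtain ⟨k', hk', hconj⟩ := IH (Nat.card (A.map f) * Nat.card (K.map f))
    (Nat.mul_lt_mul_of_le_of_lt (card_map_le f A) hKlt Nat.card_pos) (G ⧸ D)
    (A.map f) (B.map f) (K.map f)
    (haveI : (K.map f).Normal := Normal.map inferInstance f hfs
     le_normalizer_of_normal)
    ((hcop.coprime_dvd_left (Subgroup.card_map_dvd A f)).coprime_dvd_right (Subgroup.card_map_dvd K f))
    (Or.inr (isSolvable_map f K))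
    (by rw [← Subgroup.map_sup, htop, map_top_of_surjective f hfs]; exact le_top)
    (by rw [hc A hcopD, hc B (hcard ▸ hcopD), hcard]) rfl
  obtain ⟨k, hk, rfl⟩ := hk'
  rw [← map_conj_smul] at hconj
  set A1 := MulAut.conj k • A with hA1def
  have hA1card : Nat.card A1 = Nat.card A := card_conj_smul _ _
  have hB1 : B ≤ A1 ⊔ D := by
    have h := congrArg (Subgroup.comap f) hconj
    rw [comap_map_eq, comap_map_eq, hker] at h
    rw [h]; exact le_sup_left
  have hDs : Group.IsSolvable D := isSolvable_of_le hDK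
  obtain ⟨d, hd, h⟩ := IH (Nat.card A * Nat.card D)
    (Nat.mul_lt_mul_of_le_of_lt le_rfl hDlt Nat.card_pos) G A1 B D le_normalizer_of_normal
    (hA1card ▸ hcopD) (Or.inr hDs) hB1 (by rw [hA1card, hcard]) (by rw [hA1card])
  exact ⟨d * k, mul_mem (hDK hd) hk, by rw [conj_smul_mul]; exact h⟩

/-- The inductive step, when `G = A ⊔ K` with `K` normal. -/
theorem conj_step [Finite G] (A B K : Subgroup G) [K.Normal]
    (hcop : (Nat.card A).Coprime (Nat.card K))
    (hsolv : Group.IsSolvable A ∨ Group.IsSolvable K) (htop : A ⊔ K = ⊤)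
    (hcard : Nat.card B = Nat.card A)
    (IH : ∀ m < Nat.card A * Nat.card K, ConjProp.{u} m) :
    ∃ k ∈ K, MulAut.conj k • A = B := by
  have hG : Nat.card A * Nat.card K = Nat.card G := by
    rw [← card_sup_of_disjoint le_normalizer_of_normal
      (disjoint_iff.mpr (inf_eq_bot_of_coprime hcop)), htop, Subgroup.card_top]
  have hcompA : IsComplement' K A :=
    isComplement'_of_coprime (by rw [mul_comm]; exact hG) hcop.symm
  have hcompB : IsComplement' K B :=
    isComplement'_of_coprime (by rw [hcard, mul_comm]; exact hG) (hcard ▸ hcop.symm)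
  rcases hsolv with hA | hK
  · exact solvable_left_step A B K hcop htop (by rw [sup_comm]; exact hcompB.sup_eq_top) hcard IH
  · exact solvable_right_step A B K hcop htop hcompA hcompB hcard IH

theorem conjProp_all (n : ℕ) : ConjProp.{u} n := by
  induction n using Nat.strong_induction_on with
  | _ n IH =>
    intro G _ _ A B K hAK hcop hsolv hB hcard hn
    subst hn
    set L := A ⊔ K with hL
    have : (K.subgroupOf L).Normal :=
      (normal_subgroupOf_iff_le_normalizer le_sup_right).mpr (sup_le hAK le_normalizer)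
    have cA : Nat.card (A.subgroupOf L) = Nat.card A :=
      Nat.card_congr (subgroupOfEquivOfLe le_sup_left).toEquiv
    have cK : Nat.card (K.subgroupOf L) = Nat.card K :=
      Nat.card_congr (subgroupOfEquivOfLe le_sup_right).toEquiv
    obtain ⟨⟨k, hkL⟩, hk, h⟩ := conj_step (A.subgroupOf L) (B.subgroupOf L) (K.subgroupOf L)
      (by rw [cA, cK]; exact hcop)
      (hsolv.imp
        (fun _h => @Group.isSolvable_of_surjective _ _ _ _ ((subgroupOfEquivOfLe (H := A) (K := L)
          le_sup_left).symm.toMonoidHom) (MulEquiv.surjective _) _h)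
        (fun _h => @Group.isSolvable_of_surjective _ _ _ _ ((subgroupOfEquivOfLe (H := K) (K := L)
          le_sup_right).symm.toMonoidHom) (MulEquiv.surjective _) _h))
      (by rw [← subgroupOf_sup le_sup_left le_sup_right, subgroupOf_self])
      (by rw [cA, Nat.card_congr (subgroupOfEquivOfLe hB).toEquiv, hcard])
      (by rw [cA, cK]; exact IH)
    refine ⟨k, hk, ?_⟩
    have := congrArg (Subgroup.map L.subtype) h
    rwa [map_conj_smul, subgroupOf_map_subtype, subgroupOf_map_subtype, inf_eq_left.mpr le_sup_left,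
      inf_eq_left.mpr hB] at this

/-- **Schur-Zassenhaus conjugacy**, internal form. -/
theorem exists_conj_eq_of_coprime [Finite G] {A B K : Subgroup G}
    (hAK : A ≤ normalizer (K : Set G)) (hcop : (Nat.card A).Coprime (Nat.card K))
    (hsolv : Group.IsSolvable A ∨ Group.IsSolvable K) (hB : B ≤ A ⊔ K)
    (hcard : Nat.card B = Nat.card A) : ∃ k ∈ K, MulAut.conj k • A = B :=
  conjProp_all _ G A B K hAK hcop hsolv hB hcard rfl

/-- **Schur-Zassenhaus conjugacy** for complements of a normal subgroup. -/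
theorem exists_conj_eq_of_isComplement' [Finite G] {N H K : Subgroup G} [N.Normal]
    (hN : (Nat.card N).Coprime N.index) (hsolv : Group.IsSolvable N ∨ Group.IsSolvable (G ⧸ N))
    (hH : IsComplement' N H) (hK : IsComplement' N K) : ∃ n ∈ N, MulAut.conj n • H = K := by
  have hcH : N.index = Nat.card H := hH.symm.index_eq_card
  refine exists_conj_eq_of_coprime le_normalizer_of_normal (hcH ▸ hN.symm) ?_
    (by rw [hH.symm.sup_eq_top]; exact le_top) (hK.symm.index_eq_card.symm.trans hcH)
  rcases hsolv with h | h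
  · exact Or.inr h
  · left
    refine Group.isSolvable_of_isSolvable_injective (f := (QuotientGroup.mk' N).comp H.subtype) ?_
    intro x y hxy
    have h1 : (x : G)⁻¹ * y ∈ N := (QuotientGroup.eq).mp hxy
    have h2 : (x : G)⁻¹ * y ∈ H := mul_mem (inv_mem x.2) y.2
    have h3 : (x : G)⁻¹ * y ∈ N ⊓ H := ⟨h1, h2⟩
    rw [hH.disjoint.eq_bot, mem_bot, inv_mul_eq_one] at h3
    exact Subtype.ext h3

end Cfsg.Agent.Lib.Coprime
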